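import Cfsg.Agent.Lib.ToddCox.He2058.Data0
set_option autoImplicit false
set_option maxRecDepth 100000
namespace Cfsg.Agent.Lib.ToddCox.He2058
def eT_0_2 (j : ℕ) : ℕ := bif Nat.blt j 1 then E_0 else E_1
def eT_2_4 (j : ℕ) : ℕ := bif Nat.blt j 3 then E_2 else E_3
def eT_0_4 (j : ℕ) : ℕ := bif Nat.blt j 2 then (eT_0_2 j) else (eT_2_4 j)
def eT_4_6 (j : ℕ) : ℕ := bif Nat.blt j 5 then E_4 else E_5
def eT_6_8 (j : ℕ) : ℕ := bif Nat.blt j 7 then E_6 else E_7
def eT_4_8 (j : ℕ) : ℕ := bif Nat.blt j 6 then (eT_4_6 j) else (eT_6_8 j)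
def eT_0_8 (j : ℕ) : ℕ := bif Nat.blt j 4 then (eT_0_4 j) else (eT_4_8 j)
def eT_8_10 (j : ℕ) : ℕ := bif Nat.blt j 9 then E_8 else E_9
def eT_10_12 (j : ℕ) : ℕ := bif Nat.blt j 11 then E_10 else E_11
def eT_8_12 (j : ℕ) : ℕ := bif Nat.blt j 10 then (eT_8_10 j) else (eT_10_12 j)
def eT_12_14 (j : ℕ) : ℕ := bif Nat.blt j 13 then E_12 else E_13
def eT_14_16 (j : ℕ) : ℕ := bif Nat.blt j 15 then E_14 else E_15
def eT_12_16 (j : ℕ) : ℕ := bif Nat.blt j 14 then (eT_12_14 j) else (eT_14_16 j)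
def eT_8_16 (j : ℕ) : ℕ := bif Nat.blt j 12 then (eT_8_12 j) else (eT_12_16 j)
def eT_0_16 (j : ℕ) : ℕ := bif Nat.blt j 8 then (eT_0_8 j) else (eT_8_16 j)
def eT_16_18 (j : ℕ) : ℕ := bif Nat.blt j 17 then E_16 else E_17
def eT_18_20 (j : ℕ) : ℕ := bif Nat.blt j 19 then E_18 else E_19
def eT_16_20 (j : ℕ) : ℕ := bif Nat.blt j 18 then (eT_16_18 j) else (eT_18_20 j)
def eT_20_22 (j : ℕ) : ℕ := bif Nat.blt j 21 then E_20 else E_21
def eT_22_24 (j : ℕ) : ℕ := bif Nat.blt j 23 then E_22 else E_23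
def eT_20_24 (j : ℕ) : ℕ := bif Nat.blt j 22 then (eT_20_22 j) else (eT_22_24 j)
def eT_16_24 (j : ℕ) : ℕ := bif Nat.blt j 20 then (eT_16_20 j) else (eT_20_24 j)
def eT_24_26 (j : ℕ) : ℕ := bif Nat.blt j 25 then E_24 else E_25
def eT_26_28 (j : ℕ) : ℕ := bif Nat.blt j 27 then E_26 else E_27
def eT_24_28 (j : ℕ) : ℕ := bif Nat.blt j 26 then (eT_24_26 j) else (eT_26_28 j)
def eT_28_30 (j : ℕ) : ℕ := bif Nat.blt j 29 then E_28 else E_29
def eT_30_32 (j : ℕ) : ℕ := bif Nat.blt j 31 then E_30 else E_31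
def eT_28_32 (j : ℕ) : ℕ := bif Nat.blt j 30 then (eT_28_30 j) else (eT_30_32 j)
def eT_24_32 (j : ℕ) : ℕ := bif Nat.blt j 28 then (eT_24_28 j) else (eT_28_32 j)
def eT_16_32 (j : ℕ) : ℕ := bif Nat.blt j 24 then (eT_16_24 j) else (eT_24_32 j)
def eT_0_32 (j : ℕ) : ℕ := bif Nat.blt j 16 then (eT_0_16 j) else (eT_16_32 j)
def eT_32_34 (j : ℕ) : ℕ := bif Nat.blt j 33 then E_32 else E_33
def eT_34_36 (j : ℕ) : ℕ := bif Nat.blt j 35 then E_34 else E_35
def eT_32_36 (j : ℕ) : ℕ := bif Nat.blt j 34 then (eT_32_34 j) else (eT_34_36 j)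
def eT_36_38 (j : ℕ) : ℕ := bif Nat.blt j 37 then E_36 else E_37
def eT_38_40 (j : ℕ) : ℕ := bif Nat.blt j 39 then E_38 else E_39
def eT_36_40 (j : ℕ) : ℕ := bif Nat.blt j 38 then (eT_36_38 j) else (eT_38_40 j)
def eT_32_40 (j : ℕ) : ℕ := bif Nat.blt j 36 then (eT_32_36 j) else (eT_36_40 j)
def eT_40_42 (j : ℕ) : ℕ := bif Nat.blt j 41 then E_40 else E_41
def eT_42_44 (j : ℕ) : ℕ := bif Nat.blt j 43 then E_42 else E_43
def eT_40_44 (j : ℕ) : ℕ := bif Nat.blt j 42 then (eT_40_42 j) else (eT_42_44 j)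
def eT_44_46 (j : ℕ) : ℕ := bif Nat.blt j 45 then E_44 else E_45
def eT_46_48 (j : ℕ) : ℕ := bif Nat.blt j 47 then E_46 else E_47
def eT_44_48 (j : ℕ) : ℕ := bif Nat.blt j 46 then (eT_44_46 j) else (eT_46_48 j)
def eT_40_48 (j : ℕ) : ℕ := bif Nat.blt j 44 then (eT_40_44 j) else (eT_44_48 j)
def eT_32_48 (j : ℕ) : ℕ := bif Nat.blt j 40 then (eT_32_40 j) else (eT_40_48 j)
def eT_48_50 (j : ℕ) : ℕ := bif Nat.blt j 49 then E_48 else E_49
def eT_50_52 (j : ℕ) : ℕ := bif Nat.blt j 51 then E_50 else E_51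
def eT_48_52 (j : ℕ) : ℕ := bif Nat.blt j 50 then (eT_48_50 j) else (eT_50_52 j)
def eT_52_54 (j : ℕ) : ℕ := bif Nat.blt j 53 then E_52 else E_53
def eT_54_56 (j : ℕ) : ℕ := bif Nat.blt j 55 then E_54 else E_55
def eT_52_56 (j : ℕ) : ℕ := bif Nat.blt j 54 then (eT_52_54 j) else (eT_54_56 j)
def eT_48_56 (j : ℕ) : ℕ := bif Nat.blt j 52 then (eT_48_52 j) else (eT_52_56 j)
def eT_56_58 (j : ℕ) : ℕ := bif Nat.blt j 57 then E_56 else E_57
def eT_58_60 (j : ℕ) : ℕ := bif Nat.blt j 59 then E_58 else E_59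
def eT_56_60 (j : ℕ) : ℕ := bif Nat.blt j 58 then (eT_56_58 j) else (eT_58_60 j)
def eT_60_62 (j : ℕ) : ℕ := bif Nat.blt j 61 then E_60 else E_61
def eT_63_65 (j : ℕ) : ℕ := bif Nat.blt j 64 then E_63 else E_64
def eT_62_65 (j : ℕ) : ℕ := bif Nat.blt j 63 then E_62 else (eT_63_65 j)
def eT_60_65 (j : ℕ) : ℕ := bif Nat.blt j 62 then (eT_60_62 j) else (eT_62_65 j)
def eT_56_65 (j : ℕ) : ℕ := bif Nat.blt j 60 then (eT_56_60 j) else (eT_60_65 j)
def eT_48_65 (j : ℕ) : ℕ := bif Nat.blt j 56 then (eT_48_56 j) else (eT_56_65 j)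
def eT_32_65 (j : ℕ) : ℕ := bif Nat.blt j 48 then (eT_32_48 j) else (eT_48_65 j)
def eT_0_65 (j : ℕ) : ℕ := bif Nat.blt j 32 then (eT_0_32 j) else (eT_32_65 j)
def eT_65_67 (j : ℕ) : ℕ := bif Nat.blt j 66 then E_65 else E_66
def eT_67_69 (j : ℕ) : ℕ := bif Nat.blt j 68 then E_67 else E_68
def eT_65_69 (j : ℕ) : ℕ := bif Nat.blt j 67 then (eT_65_67 j) else (eT_67_69 j)
def eT_69_71 (j : ℕ) : ℕ := bif Nat.blt j 70 then E_69 else E_70
def eT_71_73 (j : ℕ) : ℕ := bif Nat.blt j 72 then E_71 else E_72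
def eT_69_73 (j : ℕ) : ℕ := bif Nat.blt j 71 then (eT_69_71 j) else (eT_71_73 j)
def eT_65_73 (j : ℕ) : ℕ := bif Nat.blt j 69 then (eT_65_69 j) else (eT_69_73 j)
def eT_73_75 (j : ℕ) : ℕ := bif Nat.blt j 74 then E_73 else E_74
def eT_75_77 (j : ℕ) : ℕ := bif Nat.blt j 76 then E_75 else E_76
def eT_73_77 (j : ℕ) : ℕ := bif Nat.blt j 75 then (eT_73_75 j) else (eT_75_77 j)
def eT_77_79 (j : ℕ) : ℕ := bif Nat.blt j 78 then E_77 else E_78
def eT_79_81 (j : ℕ) : ℕ := bif Nat.blt j 80 then E_79 else E_80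
def eT_77_81 (j : ℕ) : ℕ := bif Nat.blt j 79 then (eT_77_79 j) else (eT_79_81 j)
def eT_73_81 (j : ℕ) : ℕ := bif Nat.blt j 77 then (eT_73_77 j) else (eT_77_81 j)
def eT_65_81 (j : ℕ) : ℕ := bif Nat.blt j 73 then (eT_65_73 j) else (eT_73_81 j)
def eT_81_83 (j : ℕ) : ℕ := bif Nat.blt j 82 then E_81 else E_82
def eT_83_85 (j : ℕ) : ℕ := bif Nat.blt j 84 then E_83 else E_84
def eT_81_85 (j : ℕ) : ℕ := bif Nat.blt j 83 then (eT_81_83 j) else (eT_83_85 j)
def eT_85_87 (j : ℕ) : ℕ := bif Nat.blt j 86 then E_85 else E_86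
def eT_87_89 (j : ℕ) : ℕ := bif Nat.blt j 88 then E_87 else E_88
def eT_85_89 (j : ℕ) : ℕ := bif Nat.blt j 87 then (eT_85_87 j) else (eT_87_89 j)
def eT_81_89 (j : ℕ) : ℕ := bif Nat.blt j 85 then (eT_81_85 j) else (eT_85_89 j)
def eT_89_91 (j : ℕ) : ℕ := bif Nat.blt j 90 then E_89 else E_90
def eT_91_93 (j : ℕ) : ℕ := bif Nat.blt j 92 then E_91 else E_92
def eT_89_93 (j : ℕ) : ℕ := bif Nat.blt j 91 then (eT_89_91 j) else (eT_91_93 j)
def eT_93_95 (j : ℕ) : ℕ := bif Nat.blt j 94 then E_93 else E_94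
def eT_96_98 (j : ℕ) : ℕ := bif Nat.blt j 97 then E_96 else E_97
def eT_95_98 (j : ℕ) : ℕ := bif Nat.blt j 96 then E_95 else (eT_96_98 j)
def eT_93_98 (j : ℕ) : ℕ := bif Nat.blt j 95 then (eT_93_95 j) else (eT_95_98 j)
def eT_89_98 (j : ℕ) : ℕ := bif Nat.blt j 93 then (eT_89_93 j) else (eT_93_98 j)
def eT_81_98 (j : ℕ) : ℕ := bif Nat.blt j 89 then (eT_81_89 j) else (eT_89_98 j)
def eT_65_98 (j : ℕ) : ℕ := bif Nat.blt j 81 then (eT_65_81 j) else (eT_81_98 j)
def eT_98_100 (j : ℕ) : ℕ := bif Nat.blt j 99 then E_98 else E_99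
def eT_100_102 (j : ℕ) : ℕ := bif Nat.blt j 101 then E_100 else E_101
def eT_98_102 (j : ℕ) : ℕ := bif Nat.blt j 100 then (eT_98_100 j) else (eT_100_102 j)
def eT_102_104 (j : ℕ) : ℕ := bif Nat.blt j 103 then E_102 else E_103
def eT_104_106 (j : ℕ) : ℕ := bif Nat.blt j 105 then E_104 else E_105
def eT_102_106 (j : ℕ) : ℕ := bif Nat.blt j 104 then (eT_102_104 j) else (eT_104_106 j)
def eT_98_106 (j : ℕ) : ℕ := bif Nat.blt j 102 then (eT_98_102 j) else (eT_102_106 j)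
def eT_106_108 (j : ℕ) : ℕ := bif Nat.blt j 107 then E_106 else E_107
def eT_108_110 (j : ℕ) : ℕ := bif Nat.blt j 109 then E_108 else E_109
def eT_106_110 (j : ℕ) : ℕ := bif Nat.blt j 108 then (eT_106_108 j) else (eT_108_110 j)
def eT_110_112 (j : ℕ) : ℕ := bif Nat.blt j 111 then E_110 else E_111
def eT_112_114 (j : ℕ) : ℕ := bif Nat.blt j 113 then E_112 else E_113
def eT_110_114 (j : ℕ) : ℕ := bif Nat.blt j 112 then (eT_110_112 j) else (eT_112_114 j)
def eT_106_114 (j : ℕ) : ℕ := bif Nat.blt j 110 then (eT_106_110 j) else (eT_110_114 j)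
def eT_98_114 (j : ℕ) : ℕ := bif Nat.blt j 106 then (eT_98_106 j) else (eT_106_114 j)
def eT_114_116 (j : ℕ) : ℕ := bif Nat.blt j 115 then E_114 else E_115
def eT_116_118 (j : ℕ) : ℕ := bif Nat.blt j 117 then E_116 else E_117
def eT_114_118 (j : ℕ) : ℕ := bif Nat.blt j 116 then (eT_114_116 j) else (eT_116_118 j)
def eT_118_120 (j : ℕ) : ℕ := bif Nat.blt j 119 then E_118 else E_119
def eT_120_122 (j : ℕ) : ℕ := bif Nat.blt j 121 then E_120 else E_121
def eT_118_122 (j : ℕ) : ℕ := bif Nat.blt j 120 then (eT_118_120 j) else (eT_120_122 j)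
def eT_114_122 (j : ℕ) : ℕ := bif Nat.blt j 118 then (eT_114_118 j) else (eT_118_122 j)
def eT_122_124 (j : ℕ) : ℕ := bif Nat.blt j 123 then E_122 else E_123
def eT_124_126 (j : ℕ) : ℕ := bif Nat.blt j 125 then E_124 else E_125
def eT_122_126 (j : ℕ) : ℕ := bif Nat.blt j 124 then (eT_122_124 j) else (eT_124_126 j)
def eT_126_128 (j : ℕ) : ℕ := bif Nat.blt j 127 then E_126 else E_127
def eT_129_131 (j : ℕ) : ℕ := bif Nat.blt j 130 then E_129 else E_130
def eT_128_131 (j : ℕ) : ℕ := bif Nat.blt j 129 then E_128 else (eT_129_131 j)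
def eT_126_131 (j : ℕ) : ℕ := bif Nat.blt j 128 then (eT_126_128 j) else (eT_128_131 j)
def eT_122_131 (j : ℕ) : ℕ := bif Nat.blt j 126 then (eT_122_126 j) else (eT_126_131 j)
def eT_114_131 (j : ℕ) : ℕ := bif Nat.blt j 122 then (eT_114_122 j) else (eT_122_131 j)
def eT_98_131 (j : ℕ) : ℕ := bif Nat.blt j 114 then (eT_98_114 j) else (eT_114_131 j)
def eT_65_131 (j : ℕ) : ℕ := bif Nat.blt j 98 then (eT_65_98 j) else (eT_98_131 j)
def eT_0_131 (j : ℕ) : ℕ := bif Nat.blt j 65 then (eT_0_65 j) else (eT_65_131 j)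
def eT_131_133 (j : ℕ) : ℕ := bif Nat.blt j 132 then E_131 else E_132
def eT_133_135 (j : ℕ) : ℕ := bif Nat.blt j 134 then E_133 else E_134
def eT_131_135 (j : ℕ) : ℕ := bif Nat.blt j 133 then (eT_131_133 j) else (eT_133_135 j)
def eT_135_137 (j : ℕ) : ℕ := bif Nat.blt j 136 then E_135 else E_136
def eT_137_139 (j : ℕ) : ℕ := bif Nat.blt j 138 then E_137 else E_138
def eT_135_139 (j : ℕ) : ℕ := bif Nat.blt j 137 then (eT_135_137 j) else (eT_137_139 j)
def eT_131_139 (j : ℕ) : ℕ := bif Nat.blt j 135 then (eT_131_135 j) else (eT_135_139 j)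
def eT_139_141 (j : ℕ) : ℕ := bif Nat.blt j 140 then E_139 else E_140
def eT_141_143 (j : ℕ) : ℕ := bif Nat.blt j 142 then E_141 else E_142
def eT_139_143 (j : ℕ) : ℕ := bif Nat.blt j 141 then (eT_139_141 j) else (eT_141_143 j)
def eT_143_145 (j : ℕ) : ℕ := bif Nat.blt j 144 then E_143 else E_144
def eT_145_147 (j : ℕ) : ℕ := bif Nat.blt j 146 then E_145 else E_146
def eT_143_147 (j : ℕ) : ℕ := bif Nat.blt j 145 then (eT_143_145 j) else (eT_145_147 j)
def eT_139_147 (j : ℕ) : ℕ := bif Nat.blt j 143 then (eT_139_143 j) else (eT_143_147 j)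
def eT_131_147 (j : ℕ) : ℕ := bif Nat.blt j 139 then (eT_131_139 j) else (eT_139_147 j)
def eT_147_149 (j : ℕ) : ℕ := bif Nat.blt j 148 then E_147 else E_148
def eT_149_151 (j : ℕ) : ℕ := bif Nat.blt j 150 then E_149 else E_150
def eT_147_151 (j : ℕ) : ℕ := bif Nat.blt j 149 then (eT_147_149 j) else (eT_149_151 j)
def eT_151_153 (j : ℕ) : ℕ := bif Nat.blt j 152 then E_151 else E_152
def eT_153_155 (j : ℕ) : ℕ := bif Nat.blt j 154 then E_153 else E_154
def eT_151_155 (j : ℕ) : ℕ := bif Nat.blt j 153 then (eT_151_153 j) else (eT_153_155 j)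
def eT_147_155 (j : ℕ) : ℕ := bif Nat.blt j 151 then (eT_147_151 j) else (eT_151_155 j)
def eT_155_157 (j : ℕ) : ℕ := bif Nat.blt j 156 then E_155 else E_156
def eT_157_159 (j : ℕ) : ℕ := bif Nat.blt j 158 then E_157 else E_158
def eT_155_159 (j : ℕ) : ℕ := bif Nat.blt j 157 then (eT_155_157 j) else (eT_157_159 j)
def eT_159_161 (j : ℕ) : ℕ := bif Nat.blt j 160 then E_159 else E_160
def eT_161_163 (j : ℕ) : ℕ := bif Nat.blt j 162 then E_161 else E_162
def eT_159_163 (j : ℕ) : ℕ := bif Nat.blt j 161 then (eT_159_161 j) else (eT_161_163 j)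
def eT_155_163 (j : ℕ) : ℕ := bif Nat.blt j 159 then (eT_155_159 j) else (eT_159_163 j)
def eT_147_163 (j : ℕ) : ℕ := bif Nat.blt j 155 then (eT_147_155 j) else (eT_155_163 j)
def eT_131_163 (j : ℕ) : ℕ := bif Nat.blt j 147 then (eT_131_147 j) else (eT_147_163 j)
def eT_163_165 (j : ℕ) : ℕ := bif Nat.blt j 164 then E_163 else E_164
def eT_165_167 (j : ℕ) : ℕ := bif Nat.blt j 166 then E_165 else E_166
def eT_163_167 (j : ℕ) : ℕ := bif Nat.blt j 165 then (eT_163_165 j) else (eT_165_167 j)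
def eT_167_169 (j : ℕ) : ℕ := bif Nat.blt j 168 then E_167 else E_168
def eT_169_171 (j : ℕ) : ℕ := bif Nat.blt j 170 then E_169 else E_170
def eT_167_171 (j : ℕ) : ℕ := bif Nat.blt j 169 then (eT_167_169 j) else (eT_169_171 j)
def eT_163_171 (j : ℕ) : ℕ := bif Nat.blt j 167 then (eT_163_167 j) else (eT_167_171 j)
def eT_171_173 (j : ℕ) : ℕ := bif Nat.blt j 172 then E_171 else E_172
def eT_173_175 (j : ℕ) : ℕ := bif Nat.blt j 174 then E_173 else E_174
def eT_171_175 (j : ℕ) : ℕ := bif Nat.blt j 173 then (eT_171_173 j) else (eT_173_175 j)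
def eT_175_177 (j : ℕ) : ℕ := bif Nat.blt j 176 then E_175 else E_176
def eT_177_179 (j : ℕ) : ℕ := bif Nat.blt j 178 then E_177 else E_178
def eT_175_179 (j : ℕ) : ℕ := bif Nat.blt j 177 then (eT_175_177 j) else (eT_177_179 j)
def eT_171_179 (j : ℕ) : ℕ := bif Nat.blt j 175 then (eT_171_175 j) else (eT_175_179 j)
def eT_163_179 (j : ℕ) : ℕ := bif Nat.blt j 171 then (eT_163_171 j) else (eT_171_179 j)
def eT_179_181 (j : ℕ) : ℕ := bif Nat.blt j 180 then E_179 else E_180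
def eT_181_183 (j : ℕ) : ℕ := bif Nat.blt j 182 then E_181 else E_182
def eT_179_183 (j : ℕ) : ℕ := bif Nat.blt j 181 then (eT_179_181 j) else (eT_181_183 j)
def eT_183_185 (j : ℕ) : ℕ := bif Nat.blt j 184 then E_183 else E_184
def eT_185_187 (j : ℕ) : ℕ := bif Nat.blt j 186 then E_185 else E_186
def eT_183_187 (j : ℕ) : ℕ := bif Nat.blt j 185 then (eT_183_185 j) else (eT_185_187 j)
def eT_179_187 (j : ℕ) : ℕ := bif Nat.blt j 183 then (eT_179_183 j) else (eT_183_187 j)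
def eT_187_189 (j : ℕ) : ℕ := bif Nat.blt j 188 then E_187 else E_188
def eT_189_191 (j : ℕ) : ℕ := bif Nat.blt j 190 then E_189 else E_190
def eT_187_191 (j : ℕ) : ℕ := bif Nat.blt j 189 then (eT_187_189 j) else (eT_189_191 j)
def eT_191_193 (j : ℕ) : ℕ := bif Nat.blt j 192 then E_191 else E_192
def eT_194_196 (j : ℕ) : ℕ := bif Nat.blt j 195 then E_194 else E_195
def eT_193_196 (j : ℕ) : ℕ := bif Nat.blt j 194 then E_193 else (eT_194_196 j)
def eT_191_196 (j : ℕ) : ℕ := bif Nat.blt j 193 then (eT_191_193 j) else (eT_193_196 j)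
def eT_187_196 (j : ℕ) : ℕ := bif Nat.blt j 191 then (eT_187_191 j) else (eT_191_196 j)
def eT_179_196 (j : ℕ) : ℕ := bif Nat.blt j 187 then (eT_179_187 j) else (eT_187_196 j)
def eT_163_196 (j : ℕ) : ℕ := bif Nat.blt j 179 then (eT_163_179 j) else (eT_179_196 j)
def eT_131_196 (j : ℕ) : ℕ := bif Nat.blt j 163 then (eT_131_163 j) else (eT_163_196 j)
def eT_196_198 (j : ℕ) : ℕ := bif Nat.blt j 197 then E_196 else E_197
def eT_198_200 (j : ℕ) : ℕ := bif Nat.blt j 199 then E_198 else E_199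
def eT_196_200 (j : ℕ) : ℕ := bif Nat.blt j 198 then (eT_196_198 j) else (eT_198_200 j)
def eT_200_202 (j : ℕ) : ℕ := bif Nat.blt j 201 then E_200 else E_201
def eT_202_204 (j : ℕ) : ℕ := bif Nat.blt j 203 then E_202 else E_203
def eT_200_204 (j : ℕ) : ℕ := bif Nat.blt j 202 then (eT_200_202 j) else (eT_202_204 j)
def eT_196_204 (j : ℕ) : ℕ := bif Nat.blt j 200 then (eT_196_200 j) else (eT_200_204 j)
def eT_204_206 (j : ℕ) : ℕ := bif Nat.blt j 205 then E_204 else E_205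
def eT_206_208 (j : ℕ) : ℕ := bif Nat.blt j 207 then E_206 else E_207
def eT_204_208 (j : ℕ) : ℕ := bif Nat.blt j 206 then (eT_204_206 j) else (eT_206_208 j)
def eT_208_210 (j : ℕ) : ℕ := bif Nat.blt j 209 then E_208 else E_209
def eT_210_212 (j : ℕ) : ℕ := bif Nat.blt j 211 then E_210 else E_211
def eT_208_212 (j : ℕ) : ℕ := bif Nat.blt j 210 then (eT_208_210 j) else (eT_210_212 j)
def eT_204_212 (j : ℕ) : ℕ := bif Nat.blt j 208 then (eT_204_208 j) else (eT_208_212 j)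
def eT_196_212 (j : ℕ) : ℕ := bif Nat.blt j 204 then (eT_196_204 j) else (eT_204_212 j)
def eT_212_214 (j : ℕ) : ℕ := bif Nat.blt j 213 then E_212 else E_213
def eT_214_216 (j : ℕ) : ℕ := bif Nat.blt j 215 then E_214 else E_215
def eT_212_216 (j : ℕ) : ℕ := bif Nat.blt j 214 then (eT_212_214 j) else (eT_214_216 j)
def eT_216_218 (j : ℕ) : ℕ := bif Nat.blt j 217 then E_216 else E_217
def eT_218_220 (j : ℕ) : ℕ := bif Nat.blt j 219 then E_218 else E_219
def eT_216_220 (j : ℕ) : ℕ := bif Nat.blt j 218 then (eT_216_218 j) else (eT_218_220 j)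
def eT_212_220 (j : ℕ) : ℕ := bif Nat.blt j 216 then (eT_212_216 j) else (eT_216_220 j)
def eT_220_222 (j : ℕ) : ℕ := bif Nat.blt j 221 then E_220 else E_221
def eT_222_224 (j : ℕ) : ℕ := bif Nat.blt j 223 then E_222 else E_223
def eT_220_224 (j : ℕ) : ℕ := bif Nat.blt j 222 then (eT_220_222 j) else (eT_222_224 j)
def eT_224_226 (j : ℕ) : ℕ := bif Nat.blt j 225 then E_224 else E_225
def eT_227_229 (j : ℕ) : ℕ := bif Nat.blt j 228 then E_227 else E_228
def eT_226_229 (j : ℕ) : ℕ := bif Nat.blt j 227 then E_226 else (eT_227_229 j)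
def eT_224_229 (j : ℕ) : ℕ := bif Nat.blt j 226 then (eT_224_226 j) else (eT_226_229 j)
def eT_220_229 (j : ℕ) : ℕ := bif Nat.blt j 224 then (eT_220_224 j) else (eT_224_229 j)
def eT_212_229 (j : ℕ) : ℕ := bif Nat.blt j 220 then (eT_212_220 j) else (eT_220_229 j)
def eT_196_229 (j : ℕ) : ℕ := bif Nat.blt j 212 then (eT_196_212 j) else (eT_212_229 j)
def eT_229_231 (j : ℕ) : ℕ := bif Nat.blt j 230 then E_229 else E_230
def eT_231_233 (j : ℕ) : ℕ := bif Nat.blt j 232 then E_231 else E_232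
def eT_229_233 (j : ℕ) : ℕ := bif Nat.blt j 231 then (eT_229_231 j) else (eT_231_233 j)
def eT_233_235 (j : ℕ) : ℕ := bif Nat.blt j 234 then E_233 else E_234
def eT_235_237 (j : ℕ) : ℕ := bif Nat.blt j 236 then E_235 else E_236
def eT_233_237 (j : ℕ) : ℕ := bif Nat.blt j 235 then (eT_233_235 j) else (eT_235_237 j)
def eT_229_237 (j : ℕ) : ℕ := bif Nat.blt j 233 then (eT_229_233 j) else (eT_233_237 j)
def eT_237_239 (j : ℕ) : ℕ := bif Nat.blt j 238 then E_237 else E_238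
def eT_239_241 (j : ℕ) : ℕ := bif Nat.blt j 240 then E_239 else E_240
def eT_237_241 (j : ℕ) : ℕ := bif Nat.blt j 239 then (eT_237_239 j) else (eT_239_241 j)
def eT_241_243 (j : ℕ) : ℕ := bif Nat.blt j 242 then E_241 else E_242
def eT_243_245 (j : ℕ) : ℕ := bif Nat.blt j 244 then E_243 else E_244
def eT_241_245 (j : ℕ) : ℕ := bif Nat.blt j 243 then (eT_241_243 j) else (eT_243_245 j)
def eT_237_245 (j : ℕ) : ℕ := bif Nat.blt j 241 then (eT_237_241 j) else (eT_241_245 j)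
def eT_229_245 (j : ℕ) : ℕ := bif Nat.blt j 237 then (eT_229_237 j) else (eT_237_245 j)
def eT_245_247 (j : ℕ) : ℕ := bif Nat.blt j 246 then E_245 else E_246
def eT_247_249 (j : ℕ) : ℕ := bif Nat.blt j 248 then E_247 else E_248
def eT_245_249 (j : ℕ) : ℕ := bif Nat.blt j 247 then (eT_245_247 j) else (eT_247_249 j)
def eT_249_251 (j : ℕ) : ℕ := bif Nat.blt j 250 then E_249 else E_250
def eT_251_253 (j : ℕ) : ℕ := bif Nat.blt j 252 then E_251 else E_252
def eT_249_253 (j : ℕ) : ℕ := bif Nat.blt j 251 then (eT_249_251 j) else (eT_251_253 j)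
def eT_245_253 (j : ℕ) : ℕ := bif Nat.blt j 249 then (eT_245_249 j) else (eT_249_253 j)
def eT_253_255 (j : ℕ) : ℕ := bif Nat.blt j 254 then E_253 else E_254
def eT_255_257 (j : ℕ) : ℕ := bif Nat.blt j 256 then E_255 else E_256
def eT_253_257 (j : ℕ) : ℕ := bif Nat.blt j 255 then (eT_253_255 j) else (eT_255_257 j)
def eT_257_259 (j : ℕ) : ℕ := bif Nat.blt j 258 then E_257 else E_258
def eT_260_262 (j : ℕ) : ℕ := bif Nat.blt j 261 then E_260 else E_261
def eT_259_262 (j : ℕ) : ℕ := bif Nat.blt j 260 then E_259 else (eT_260_262 j)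
def eT_257_262 (j : ℕ) : ℕ := bif Nat.blt j 259 then (eT_257_259 j) else (eT_259_262 j)
def eT_253_262 (j : ℕ) : ℕ := bif Nat.blt j 257 then (eT_253_257 j) else (eT_257_262 j)
def eT_245_262 (j : ℕ) : ℕ := bif Nat.blt j 253 then (eT_245_253 j) else (eT_253_262 j)
def eT_229_262 (j : ℕ) : ℕ := bif Nat.blt j 245 then (eT_229_245 j) else (eT_245_262 j)
def eT_196_262 (j : ℕ) : ℕ := bif Nat.blt j 229 then (eT_196_229 j) else (eT_229_262 j)
def eT_131_262 (j : ℕ) : ℕ := bif Nat.blt j 196 then (eT_131_196 j) else (eT_196_262 j)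
def eT_0_262 (j : ℕ) : ℕ := bif Nat.blt j 131 then (eT_0_131 j) else (eT_131_262 j)
def eT (j : ℕ) : ℕ := (eT_0_262 j)
noncomputable def chunkF (h : ℕ) : ℕ := Nat.rec (motive := fun _ => ℕ) (eT 0) (fun n _ => eT (Nat.succ n)) h
noncomputable def Eo (r : ℕ) : ℕ := Nat.land (Nat.shiftRight (chunkF (Nat.shiftRight r 8)) (Nat.mul (Nat.land r 255) 54)) 18014398509481983
def invT : ℕ := 0xffef7cefae78df6d74cf2c70beeb6caeaa689e69648e28607de75c6da6585d65544d24503ce34c2c92872061440c2040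
def inv (y : ℕ) : ℕ := invOf invT y
def Wt_1_3 (j : ℕ) : List ℕ := bif Nat.blt j 2 then [nat_lit 4, nat_lit 1, nat_lit 4, nat_lit 1] else [nat_lit 5, nat_lit 1, nat_lit 5, nat_lit 1]
def Wt_0_3 (j : ℕ) : List ℕ := bif Nat.blt j 1 then [nat_lit 3, nat_lit 1, nat_lit 3, nat_lit 1] else (Wt_1_3 j)
def Wt_3_5 (j : ℕ) : List ℕ := bif Nat.blt j 4 then [nat_lit 0, nat_lit 1, nat_lit 0, nat_lit 8, nat_lit 1] else [nat_lit 8, nat_lit 1, nat_lit 0, nat_lit 1, nat_lit 0]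
def Wt_5_7 (j : ℕ) : List ℕ := bif Nat.blt j 6 then [nat_lit 0, nat_lit 6, nat_lit 0, nat_lit 6] else [nat_lit 2, nat_lit 6, nat_lit 2, nat_lit 6]
def Wt_3_7 (j : ℕ) : List ℕ := bif Nat.blt j 5 then (Wt_3_5 j) else (Wt_5_7 j)
def Wt_0_7 (j : ℕ) : List ℕ := bif Nat.blt j 3 then (Wt_0_3 j) else (Wt_3_7 j)
def Wt_7_9 (j : ℕ) : List ℕ := bif Nat.blt j 8 then [nat_lit 4, nat_lit 6, nat_lit 4, nat_lit 6] else [nat_lit 5, nat_lit 6, nat_lit 4, nat_lit 5, nat_lit 6]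
def Wt_9_11 (j : ℕ) : List ℕ := bif Nat.blt j 10 then [nat_lit 6, nat_lit 1, nat_lit 6, nat_lit 1] else [nat_lit 5, nat_lit 6, nat_lit 5, nat_lit 6, nat_lit 4]
def Wt_7_11 (j : ℕ) : List ℕ := bif Nat.blt j 9 then (Wt_7_9 j) else (Wt_9_11 j)
def Wt_11_13 (j : ℕ) : List ℕ := bif Nat.blt j 12 then [nat_lit 1, nat_lit 2, nat_lit 1, nat_lit 2, nat_lit 1, nat_lit 2] else [nat_lit 0, nat_lit 1, nat_lit 2, nat_lit 0, nat_lit 1, nat_lit 2, nat_lit 4, nat_lit 0, nat_lit 1, nat_lit 2]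
def Wt_13_15 (j : ℕ) : List ℕ := bif Nat.blt j 14 then [nat_lit 4, nat_lit 2, nat_lit 1, nat_lit 0, nat_lit 2, nat_lit 1, nat_lit 0, nat_lit 2, nat_lit 1, nat_lit 0] else [nat_lit 5, nat_lit 2, nat_lit 5, nat_lit 2]
def Wt_11_15 (j : ℕ) : List ℕ := bif Nat.blt j 13 then (Wt_11_13 j) else (Wt_13_15 j)
def Wt_7_15 (j : ℕ) : List ℕ := bif Nat.blt j 11 then (Wt_7_11 j) else (Wt_11_15 j)
def Wt_0_15 (j : ℕ) : List ℕ := bif Nat.blt j 7 then (Wt_0_7 j) else (Wt_7_15 j)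
def Wt_16_18 (j : ℕ) : List ℕ := bif Nat.blt j 17 then [nat_lit 0, nat_lit 3, nat_lit 0, nat_lit 3] else [nat_lit 5, nat_lit 3, nat_lit 2, nat_lit 6, nat_lit 5, nat_lit 3, nat_lit 2, nat_lit 6, nat_lit 5, nat_lit 3, nat_lit 2, nat_lit 6, nat_lit 5, nat_lit 3, nat_lit 2, nat_lit 6]
def Wt_15_18 (j : ℕ) : List ℕ := bif Nat.blt j 16 then [nat_lit 6, nat_lit 3, nat_lit 6, nat_lit 3, nat_lit 6, nat_lit 3] else (Wt_16_18 j)
def Wt_18_20 (j : ℕ) : List ℕ := bif Nat.blt j 19 then [nat_lit 0, nat_lit 5, nat_lit 0, nat_lit 5] else [nat_lit 3, nat_lit 5, nat_lit 3, nat_lit 5, nat_lit 3, nat_lit 5]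
def Wt_20_22 (j : ℕ) : List ℕ := bif Nat.blt j 21 then [nat_lit 4, nat_lit 5, nat_lit 6, nat_lit 5, nat_lit 6] else [nat_lit 0, nat_lit 4, nat_lit 0, nat_lit 4]
def Wt_18_22 (j : ℕ) : List ℕ := bif Nat.blt j 20 then (Wt_18_20 j) else (Wt_20_22 j)
def Wt_15_22 (j : ℕ) : List ℕ := bif Nat.blt j 18 then (Wt_15_18 j) else (Wt_18_22 j)
def Wt_22_24 (j : ℕ) : List ℕ := bif Nat.blt j 23 then [nat_lit 0, nat_lit 2, nat_lit 0, nat_lit 2] else [nat_lit 63, nat_lit 2, nat_lit 6, nat_lit 2, nat_lit 6]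
def Wt_24_26 (j : ℕ) : List ℕ := bif Nat.blt j 25 then [nat_lit 5, nat_lit 5, nat_lit 63] else [nat_lit 6, nat_lit 6, nat_lit 63]
def Wt_22_26 (j : ℕ) : List ℕ := bif Nat.blt j 24 then (Wt_22_24 j) else (Wt_24_26 j)
def Wt_26_28 (j : ℕ) : List ℕ := bif Nat.blt j 27 then [nat_lit 2, nat_lit 5, nat_lit 2, nat_lit 5] else [nat_lit 4, nat_lit 2, nat_lit 4, nat_lit 2]
def Wt_28_30 (j : ℕ) : List ℕ := bif Nat.blt j 29 then [nat_lit 6, nat_lit 2, nat_lit 6, nat_lit 2] else [nat_lit 4, nat_lit 3, nat_lit 2, nat_lit 1, nat_lit 10, nat_lit 4, nat_lit 3, nat_lit 2, nat_lit 1, nat_lit 4, nat_lit 3, nat_lit 2, nat_lit 1, nat_lit 4, nat_lit 3, nat_lit 2, nat_lit 1, nat_lit 4, nat_lit 3, nat_lit 2, nat_lit 1, nat_lit 4, nat_lit 3, nat_lit 2, nat_lit 1, nat_lit 4, nat_lit 3, nat_lit 2, nat_lit 1]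
def Wt_26_30 (j : ℕ) : List ℕ := bif Nat.blt j 28 then (Wt_26_28 j) else (Wt_28_30 j)
def Wt_22_30 (j : ℕ) : List ℕ := bif Nat.blt j 26 then (Wt_22_26 j) else (Wt_26_30 j)
def Wt_15_30 (j : ℕ) : List ℕ := bif Nat.blt j 22 then (Wt_15_22 j) else (Wt_22_30 j)
def Wt_0_30 (j : ℕ) : List ℕ := bif Nat.blt j 15 then (Wt_0_15 j) else (Wt_15_30 j)
def Wt_31_33 (j : ℕ) : List ℕ := bif Nat.blt j 32 then [nat_lit 10, nat_lit 4, nat_lit 3, nat_lit 2, nat_lit 1, nat_lit 4, nat_lit 3, nat_lit 2, nat_lit 1, nat_lit 4, nat_lit 3, nat_lit 2, nat_lit 1, nat_lit 4, nat_lit 3, nat_lit 2, nat_lit 1, nat_lit 4, nat_lit 3, nat_lit 2, nat_lit 1, nat_lit 4, nat_lit 3, nat_lit 2, nat_lit 1, nat_lit 4, nat_lit 3, nat_lit 2, nat_lit 1] else [nat_lit 1, nat_lit 3, nat_lit 1, nat_lit 3]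
def Wt_30_33 (j : ℕ) : List ℕ := bif Nat.blt j 31 then [nat_lit 3, nat_lit 4, nat_lit 3, nat_lit 4, nat_lit 3, nat_lit 4] else (Wt_31_33 j)
def Wt_33_35 (j : ℕ) : List ℕ := bif Nat.blt j 34 then [nat_lit 2, nat_lit 1, nat_lit 2, nat_lit 1, nat_lit 2, nat_lit 1] else [nat_lit 63, nat_lit 4, nat_lit 1, nat_lit 4, nat_lit 1]
def Wt_35_37 (j : ℕ) : List ℕ := bif Nat.blt j 36 then [nat_lit 1, nat_lit 1, nat_lit 63] else [nat_lit 4, nat_lit 4, nat_lit 63]
def Wt_33_37 (j : ℕ) : List ℕ := bif Nat.blt j 35 then (Wt_33_35 j) else (Wt_35_37 j)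
def Wt_30_37 (j : ℕ) : List ℕ := bif Nat.blt j 33 then (Wt_30_33 j) else (Wt_33_37 j)
def Wt_37_39 (j : ℕ) : List ℕ := bif Nat.blt j 38 then [nat_lit 9, nat_lit 63, nat_lit 10, nat_lit 63] else [nat_lit 1, nat_lit 4, nat_lit 1, nat_lit 4]
def Wt_39_41 (j : ℕ) : List ℕ := bif Nat.blt j 40 then [nat_lit 0, nat_lit 1, nat_lit 2, nat_lit 4, nat_lit 0, nat_lit 1, nat_lit 2, nat_lit 0, nat_lit 1, nat_lit 2] else [nat_lit 0, nat_lit 1, nat_lit 2, nat_lit 0, nat_lit 1, nat_lit 2, nat_lit 0, nat_lit 1, nat_lit 2, nat_lit 4]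
def Wt_37_41 (j : ℕ) : List ℕ := bif Nat.blt j 39 then (Wt_37_39 j) else (Wt_39_41 j)
def Wt_41_43 (j : ℕ) : List ℕ := bif Nat.blt j 42 then [nat_lit 7, nat_lit 0, nat_lit 1, nat_lit 0, nat_lit 1] else [nat_lit 1, nat_lit 6, nat_lit 1, nat_lit 6]
def Wt_43_45 (j : ℕ) : List ℕ := bif Nat.blt j 44 then [nat_lit 2, nat_lit 3, nat_lit 2, nat_lit 3, nat_lit 2, nat_lit 3, nat_lit 0, nat_lit 2, nat_lit 3, nat_lit 2, nat_lit 3] else [nat_lit 0, nat_lit 2, nat_lit 3, nat_lit 2, nat_lit 3, nat_lit 2, nat_lit 3, nat_lit 2, nat_lit 3, nat_lit 2, nat_lit 3]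
def Wt_41_45 (j : ℕ) : List ℕ := bif Nat.blt j 43 then (Wt_41_43 j) else (Wt_43_45 j)
def Wt_37_45 (j : ℕ) : List ℕ := bif Nat.blt j 41 then (Wt_37_41 j) else (Wt_41_45 j)
def Wt_30_45 (j : ℕ) : List ℕ := bif Nat.blt j 37 then (Wt_30_37 j) else (Wt_37_45 j)
def Wt_45_47 (j : ℕ) : List ℕ := bif Nat.blt j 46 then [nat_lit 1, nat_lit 5, nat_lit 1, nat_lit 5] else [nat_lit 5, nat_lit 4, nat_lit 5, nat_lit 4]
def Wt_47_49 (j : ℕ) : List ℕ := bif Nat.blt j 48 then [nat_lit 6, nat_lit 4, nat_lit 6, nat_lit 4] else [nat_lit 3, nat_lit 2, nat_lit 3, nat_lit 2, nat_lit 3, nat_lit 0, nat_lit 2, nat_lit 3, nat_lit 2, nat_lit 3, nat_lit 2]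
def Wt_45_49 (j : ℕ) : List ℕ := bif Nat.blt j 47 then (Wt_45_47 j) else (Wt_47_49 j)
def Wt_49_51 (j : ℕ) : List ℕ := bif Nat.blt j 50 then [nat_lit 3, nat_lit 2, nat_lit 3, nat_lit 0, nat_lit 2, nat_lit 3, nat_lit 2, nat_lit 3, nat_lit 2, nat_lit 3, nat_lit 2] else [nat_lit 0, nat_lit 3, nat_lit 2, nat_lit 3, nat_lit 2, nat_lit 3, nat_lit 2, nat_lit 3, nat_lit 2, nat_lit 3, nat_lit 2]
def Wt_51_53 (j : ℕ) : List ℕ := bif Nat.blt j 52 then [nat_lit 0, nat_lit 4, nat_lit 2, nat_lit 1, nat_lit 0, nat_lit 2, nat_lit 1, nat_lit 0, nat_lit 2, nat_lit 1] else [nat_lit 2, nat_lit 0, nat_lit 2, nat_lit 0]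
def Wt_49_53 (j : ℕ) : List ℕ := bif Nat.blt j 51 then (Wt_49_51 j) else (Wt_51_53 j)
def Wt_45_53 (j : ℕ) : List ℕ := bif Nat.blt j 49 then (Wt_45_49 j) else (Wt_49_53 j)
def Wt_53_55 (j : ℕ) : List ℕ := bif Nat.blt j 54 then [nat_lit 6, nat_lit 0, nat_lit 6, nat_lit 0] else [nat_lit 63, nat_lit 5, nat_lit 3, nat_lit 5, nat_lit 3, nat_lit 5, nat_lit 3]
def Wt_55_57 (j : ℕ) : List ℕ := bif Nat.blt j 56 then [nat_lit 0, nat_lit 63, nat_lit 0, nat_lit 63] else [nat_lit 63, nat_lit 6, nat_lit 2, nat_lit 6, nat_lit 2]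
def Wt_53_57 (j : ℕ) : List ℕ := bif Nat.blt j 55 then (Wt_53_55 j) else (Wt_55_57 j)
def Wt_57_59 (j : ℕ) : List ℕ := bif Nat.blt j 58 then [nat_lit 2, nat_lit 2, nat_lit 63] else [nat_lit 3, nat_lit 3, nat_lit 63]
def Wt_59_61 (j : ℕ) : List ℕ := bif Nat.blt j 60 then [nat_lit 3, nat_lit 6, nat_lit 3, nat_lit 6, nat_lit 3, nat_lit 6] else [nat_lit 4, nat_lit 3, nat_lit 4, nat_lit 3, nat_lit 4, nat_lit 3]
def Wt_57_61 (j : ℕ) : List ℕ := bif Nat.blt j 59 then (Wt_57_59 j) else (Wt_59_61 j)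
def Wt_53_61 (j : ℕ) : List ℕ := bif Nat.blt j 57 then (Wt_53_57 j) else (Wt_57_61 j)
def Wt_45_61 (j : ℕ) : List ℕ := bif Nat.blt j 53 then (Wt_45_53 j) else (Wt_53_61 j)
def Wt_30_61 (j : ℕ) : List ℕ := bif Nat.blt j 45 then (Wt_30_45 j) else (Wt_45_61 j)
def Wt_0_61 (j : ℕ) : List ℕ := bif Nat.blt j 30 then (Wt_0_30 j) else (Wt_30_61 j)
def Wt_62_64 (j : ℕ) : List ℕ := bif Nat.blt j 63 then [nat_lit 2, nat_lit 4, nat_lit 2, nat_lit 4] else [nat_lit 5, nat_lit 3, nat_lit 5, nat_lit 3, nat_lit 5, nat_lit 3]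
def Wt_61_64 (j : ℕ) : List ℕ := bif Nat.blt j 62 then [nat_lit 2, nat_lit 0, nat_lit 1, nat_lit 2, nat_lit 4, nat_lit 0, nat_lit 1, nat_lit 2, nat_lit 0, nat_lit 1] else (Wt_62_64 j)
def Wt_64_66 (j : ℕ) : List ℕ := bif Nat.blt j 65 then [nat_lit 4, nat_lit 5, nat_lit 4, nat_lit 5] else [nat_lit 6, nat_lit 5, nat_lit 6, nat_lit 4, nat_lit 5]
def Wt_66_68 (j : ℕ) : List ℕ := bif Nat.blt j 67 then [nat_lit 1, nat_lit 2, nat_lit 4, nat_lit 0, nat_lit 1, nat_lit 2, nat_lit 0, nat_lit 1, nat_lit 2, nat_lit 0] else [nat_lit 63, nat_lit 6, nat_lit 0, nat_lit 6, nat_lit 0]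
def Wt_64_68 (j : ℕ) : List ℕ := bif Nat.blt j 66 then (Wt_64_66 j) else (Wt_66_68 j)
def Wt_61_68 (j : ℕ) : List ℕ := bif Nat.blt j 64 then (Wt_61_64 j) else (Wt_64_68 j)
def Wt_68_70 (j : ℕ) : List ℕ := bif Nat.blt j 69 then [nat_lit 0, nat_lit 0, nat_lit 63] else [nat_lit 7, nat_lit 8, nat_lit 63]
def Wt_70_72 (j : ℕ) : List ℕ := bif Nat.blt j 71 then [nat_lit 2, nat_lit 0, nat_lit 1, nat_lit 2, nat_lit 0, nat_lit 1, nat_lit 2, nat_lit 4, nat_lit 0, nat_lit 1] else [nat_lit 2, nat_lit 3, nat_lit 2, nat_lit 3, nat_lit 0, nat_lit 2, nat_lit 3, nat_lit 2, nat_lit 3, nat_lit 2, nat_lit 3]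
def Wt_68_72 (j : ℕ) : List ℕ := bif Nat.blt j 70 then (Wt_68_70 j) else (Wt_70_72 j)
def Wt_72_74 (j : ℕ) : List ℕ := bif Nat.blt j 73 then [nat_lit 63, nat_lit 6, nat_lit 5, nat_lit 3, nat_lit 2, nat_lit 6, nat_lit 5, nat_lit 3, nat_lit 2, nat_lit 6, nat_lit 5, nat_lit 3, nat_lit 2, nat_lit 6, nat_lit 5, nat_lit 3, nat_lit 2] else [nat_lit 63, nat_lit 6, nat_lit 5, nat_lit 6, nat_lit 4, nat_lit 5]
def Wt_74_76 (j : ℕ) : List ℕ := bif Nat.blt j 75 then [nat_lit 63, nat_lit 3, nat_lit 63, nat_lit 3] else [nat_lit 63, nat_lit 1, nat_lit 3, nat_lit 1, nat_lit 3]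
def Wt_72_76 (j : ℕ) : List ℕ := bif Nat.blt j 74 then (Wt_72_74 j) else (Wt_74_76 j)
def Wt_68_76 (j : ℕ) : List ℕ := bif Nat.blt j 72 then (Wt_68_72 j) else (Wt_72_76 j)
def Wt_61_76 (j : ℕ) : List ℕ := bif Nat.blt j 68 then (Wt_61_68 j) else (Wt_68_76 j)
def Wt_77_79 (j : ℕ) : List ℕ := bif Nat.blt j 78 then [nat_lit 63, nat_lit 4, nat_lit 6, nat_lit 4, nat_lit 6] else [nat_lit 63, nat_lit 1, nat_lit 4, nat_lit 1, nat_lit 4]
def Wt_76_79 (j : ℕ) : List ℕ := bif Nat.blt j 77 then [nat_lit 63, nat_lit 2, nat_lit 63, nat_lit 2] else (Wt_77_79 j)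
def Wt_79_81 (j : ℕ) : List ℕ := bif Nat.blt j 80 then [nat_lit 63, nat_lit 2, nat_lit 0, nat_lit 2, nat_lit 0] else [nat_lit 6, nat_lit 5, nat_lit 6, nat_lit 5, nat_lit 6, nat_lit 5, nat_lit 6, nat_lit 5]
def Wt_81_83 (j : ℕ) : List ℕ := bif Nat.blt j 82 then [nat_lit 63, nat_lit 2, nat_lit 1, nat_lit 2, nat_lit 1, nat_lit 2, nat_lit 1] else [nat_lit 63, nat_lit 1, nat_lit 63, nat_lit 1]
def Wt_79_83 (j : ℕ) : List ℕ := bif Nat.blt j 81 then (Wt_79_81 j) else (Wt_81_83 j)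
def Wt_76_83 (j : ℕ) : List ℕ := bif Nat.blt j 79 then (Wt_76_79 j) else (Wt_79_83 j)
def Wt_83_85 (j : ℕ) : List ℕ := bif Nat.blt j 84 then [nat_lit 3, nat_lit 63, nat_lit 3, nat_lit 63] else [nat_lit 63, nat_lit 0, nat_lit 3, nat_lit 0, nat_lit 3]
def Wt_85_87 (j : ℕ) : List ℕ := bif Nat.blt j 86 then [nat_lit 2, nat_lit 1, nat_lit 0, nat_lit 2, nat_lit 1, nat_lit 0, nat_lit 2, nat_lit 1, nat_lit 0, nat_lit 4] else [nat_lit 1, nat_lit 0, nat_lit 1, nat_lit 0, nat_lit 1, nat_lit 0, nat_lit 1, nat_lit 0]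
def Wt_83_87 (j : ℕ) : List ℕ := bif Nat.blt j 85 then (Wt_83_85 j) else (Wt_85_87 j)
def Wt_87_89 (j : ℕ) : List ℕ := bif Nat.blt j 88 then [nat_lit 63, nat_lit 4, nat_lit 3, nat_lit 4, nat_lit 3, nat_lit 4, nat_lit 3] else [nat_lit 63, nat_lit 4, nat_lit 63, nat_lit 4]
def Wt_89_91 (j : ℕ) : List ℕ := bif Nat.blt j 90 then [nat_lit 63, nat_lit 3, nat_lit 2, nat_lit 3, nat_lit 2, nat_lit 3, nat_lit 2, nat_lit 3, nat_lit 0, nat_lit 2, nat_lit 3, nat_lit 2] else [nat_lit 10, nat_lit 9, nat_lit 63]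
def Wt_87_91 (j : ℕ) : List ℕ := bif Nat.blt j 89 then (Wt_87_89 j) else (Wt_89_91 j)
def Wt_83_91 (j : ℕ) : List ℕ := bif Nat.blt j 87 then (Wt_83_87 j) else (Wt_87_91 j)
def Wt_76_91 (j : ℕ) : List ℕ := bif Nat.blt j 83 then (Wt_76_83 j) else (Wt_83_91 j)
def Wt_61_91 (j : ℕ) : List ℕ := bif Nat.blt j 76 then (Wt_61_76 j) else (Wt_76_91 j)
def Wt_92_94 (j : ℕ) : List ℕ := bif Nat.blt j 93 then [nat_lit 5, nat_lit 0, nat_lit 5, nat_lit 0] else [nat_lit 6, nat_lit 5, nat_lit 3, nat_lit 2, nat_lit 6, nat_lit 5, nat_lit 3, nat_lit 2, nat_lit 6, nat_lit 5, nat_lit 3, nat_lit 2, nat_lit 6, nat_lit 5, nat_lit 3, nat_lit 2]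
def Wt_91_94 (j : ℕ) : List ℕ := bif Nat.blt j 92 then [nat_lit 9, nat_lit 1, nat_lit 2, nat_lit 3, nat_lit 4, nat_lit 1, nat_lit 2, nat_lit 3, nat_lit 4, nat_lit 1, nat_lit 2, nat_lit 3, nat_lit 4, nat_lit 1, nat_lit 2, nat_lit 3, nat_lit 4, nat_lit 1, nat_lit 2, nat_lit 3, nat_lit 4, nat_lit 1, nat_lit 2, nat_lit 3, nat_lit 4, nat_lit 1, nat_lit 2, nat_lit 3, nat_lit 4] else (Wt_92_94 j)
def Wt_94_96 (j : ℕ) : List ℕ := bif Nat.blt j 95 then [nat_lit 5, nat_lit 6, nat_lit 5, nat_lit 4, nat_lit 6] else [nat_lit 63, nat_lit 5, nat_lit 2, nat_lit 5, nat_lit 2]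
def Wt_96_98 (j : ℕ) : List ℕ := bif Nat.blt j 97 then [nat_lit 4, nat_lit 6, nat_lit 5, nat_lit 6, nat_lit 5] else [nat_lit 1, nat_lit 0, nat_lit 2, nat_lit 1, nat_lit 0, nat_lit 2, nat_lit 1, nat_lit 0, nat_lit 4, nat_lit 2]
def Wt_94_98 (j : ℕ) : List ℕ := bif Nat.blt j 96 then (Wt_94_96 j) else (Wt_96_98 j)
def Wt_91_98 (j : ℕ) : List ℕ := bif Nat.blt j 94 then (Wt_91_94 j) else (Wt_94_98 j)
def Wt_98_100 (j : ℕ) : List ℕ := bif Nat.blt j 99 then [nat_lit 5, nat_lit 6, nat_lit 5, nat_lit 6, nat_lit 5, nat_lit 6, nat_lit 5, nat_lit 6] else [nat_lit 0, nat_lit 1, nat_lit 0, nat_lit 1, nat_lit 0, nat_lit 1, nat_lit 0, nat_lit 1]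
def Wt_100_102 (j : ℕ) : List ℕ := bif Nat.blt j 101 then [nat_lit 63, nat_lit 4, nat_lit 6, nat_lit 5, nat_lit 6, nat_lit 5] else [nat_lit 9, nat_lit 10, nat_lit 63]
def Wt_98_102 (j : ℕ) : List ℕ := bif Nat.blt j 100 then (Wt_98_100 j) else (Wt_100_102 j)
def Wt_102_104 (j : ℕ) : List ℕ := bif Nat.blt j 103 then [nat_lit 2, nat_lit 1, nat_lit 0, nat_lit 4, nat_lit 2, nat_lit 1, nat_lit 0, nat_lit 2, nat_lit 1, nat_lit 0] else [nat_lit 6, nat_lit 5, nat_lit 4, nat_lit 6, nat_lit 5]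
def Wt_104_106 (j : ℕ) : List ℕ := bif Nat.blt j 105 then [nat_lit 4, nat_lit 0, nat_lit 4, nat_lit 0] else [nat_lit 1, nat_lit 0, nat_lit 4, nat_lit 2, nat_lit 1, nat_lit 0, nat_lit 2, nat_lit 1, nat_lit 0, nat_lit 2]
def Wt_102_106 (j : ℕ) : List ℕ := bif Nat.blt j 104 then (Wt_102_104 j) else (Wt_104_106 j)
def Wt_98_106 (j : ℕ) : List ℕ := bif Nat.blt j 102 then (Wt_98_102 j) else (Wt_102_106 j)
def Wt_91_106 (j : ℕ) : List ℕ := bif Nat.blt j 98 then (Wt_91_98 j) else (Wt_98_106 j)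
def Wt_106_108 (j : ℕ) : List ℕ := bif Nat.blt j 107 then [nat_lit 4, nat_lit 0, nat_lit 1, nat_lit 2, nat_lit 0, nat_lit 1, nat_lit 2, nat_lit 0, nat_lit 1, nat_lit 2] else [nat_lit 63, nat_lit 0, nat_lit 63, nat_lit 0]
def Wt_108_110 (j : ℕ) : List ℕ := bif Nat.blt j 109 then [nat_lit 2, nat_lit 3, nat_lit 0, nat_lit 2, nat_lit 3, nat_lit 2, nat_lit 3, nat_lit 2, nat_lit 3, nat_lit 2, nat_lit 3] else [nat_lit 6, nat_lit 4, nat_lit 5, nat_lit 6, nat_lit 5]
def Wt_106_110 (j : ℕ) : List ℕ := bif Nat.blt j 108 then (Wt_106_108 j) else (Wt_108_110 j)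
def Wt_110_112 (j : ℕ) : List ℕ := bif Nat.blt j 111 then [nat_lit 1, nat_lit 2, nat_lit 0, nat_lit 1, nat_lit 2, nat_lit 0, nat_lit 1, nat_lit 2, nat_lit 4, nat_lit 0] else [nat_lit 63, nat_lit 0, nat_lit 1, nat_lit 2, nat_lit 0, nat_lit 1, nat_lit 2, nat_lit 0, nat_lit 1, nat_lit 2, nat_lit 4]
def Wt_112_114 (j : ℕ) : List ℕ := bif Nat.blt j 113 then [nat_lit 3, nat_lit 2, nat_lit 6, nat_lit 5, nat_lit 3, nat_lit 2, nat_lit 6, nat_lit 5, nat_lit 3, nat_lit 2, nat_lit 6, nat_lit 5, nat_lit 3, nat_lit 2, nat_lit 6, nat_lit 5] else [nat_lit 63, nat_lit 3, nat_lit 5, nat_lit 3, nat_lit 5, nat_lit 3, nat_lit 5]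
def Wt_110_114 (j : ℕ) : List ℕ := bif Nat.blt j 112 then (Wt_110_112 j) else (Wt_112_114 j)
def Wt_106_114 (j : ℕ) : List ℕ := bif Nat.blt j 110 then (Wt_106_110 j) else (Wt_110_114 j)
def Wt_114_116 (j : ℕ) : List ℕ := bif Nat.blt j 115 then [nat_lit 4, nat_lit 63, nat_lit 4, nat_lit 63] else [nat_lit 2, nat_lit 3, nat_lit 2, nat_lit 3, nat_lit 2, nat_lit 3, nat_lit 2, nat_lit 3, nat_lit 2, nat_lit 3, nat_lit 0]
def Wt_116_118 (j : ℕ) : List ℕ := bif Nat.blt j 117 then [nat_lit 3, nat_lit 2, nat_lit 3, nat_lit 2, nat_lit 3, nat_lit 2, nat_lit 3, nat_lit 2, nat_lit 3, nat_lit 2, nat_lit 3, nat_lit 2, nat_lit 3, nat_lit 2, nat_lit 3, nat_lit 2, nat_lit 3, nat_lit 2, nat_lit 3, nat_lit 2] else [nat_lit 63, nat_lit 5, nat_lit 63, nat_lit 5]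
def Wt_114_118 (j : ℕ) : List ℕ := bif Nat.blt j 116 then (Wt_114_116 j) else (Wt_116_118 j)
def Wt_118_120 (j : ℕ) : List ℕ := bif Nat.blt j 119 then [nat_lit 2, nat_lit 6, nat_lit 5, nat_lit 3, nat_lit 2, nat_lit 6, nat_lit 5, nat_lit 3, nat_lit 2, nat_lit 6, nat_lit 5, nat_lit 3, nat_lit 2, nat_lit 6, nat_lit 5, nat_lit 3] else [nat_lit 2, nat_lit 3, nat_lit 2, nat_lit 3, nat_lit 2, nat_lit 3, nat_lit 2, nat_lit 3, nat_lit 2, nat_lit 3, nat_lit 2, nat_lit 3, nat_lit 2, nat_lit 3, nat_lit 2, nat_lit 3, nat_lit 2, nat_lit 3, nat_lit 2, nat_lit 3]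
def Wt_120_122 (j : ℕ) : List ℕ := bif Nat.blt j 121 then [nat_lit 63, nat_lit 0, nat_lit 2, nat_lit 1, nat_lit 0, nat_lit 2, nat_lit 1, nat_lit 0, nat_lit 4, nat_lit 2, nat_lit 1] else [nat_lit 3, nat_lit 5, nat_lit 6, nat_lit 2, nat_lit 3, nat_lit 5, nat_lit 6, nat_lit 2, nat_lit 3, nat_lit 5, nat_lit 6, nat_lit 2, nat_lit 3, nat_lit 5, nat_lit 6, nat_lit 2]
def Wt_118_122 (j : ℕ) : List ℕ := bif Nat.blt j 120 then (Wt_118_120 j) else (Wt_120_122 j)
def Wt_114_122 (j : ℕ) : List ℕ := bif Nat.blt j 118 then (Wt_114_118 j) else (Wt_118_122 j)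
def Wt_106_122 (j : ℕ) : List ℕ := bif Nat.blt j 114 then (Wt_106_114 j) else (Wt_114_122 j)
def Wt_91_122 (j : ℕ) : List ℕ := bif Nat.blt j 106 then (Wt_91_106 j) else (Wt_106_122 j)
def Wt_61_122 (j : ℕ) : List ℕ := bif Nat.blt j 91 then (Wt_61_91 j) else (Wt_91_122 j)
def Wt_0_122 (j : ℕ) : List ℕ := bif Nat.blt j 61 then (Wt_0_61 j) else (Wt_61_122 j)
def Wt_123_125 (j : ℕ) : List ℕ := bif Nat.blt j 124 then [nat_lit 63, nat_lit 3, nat_lit 0, nat_lit 3, nat_lit 0] else [nat_lit 8, nat_lit 7, nat_lit 63]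
def Wt_122_125 (j : ℕ) : List ℕ := bif Nat.blt j 123 then [nat_lit 63, nat_lit 0, nat_lit 1, nat_lit 0, nat_lit 1, nat_lit 0, nat_lit 1, nat_lit 0, nat_lit 1] else (Wt_123_125 j)
def Wt_125_127 (j : ℕ) : List ℕ := bif Nat.blt j 126 then [nat_lit 63, nat_lit 0, nat_lit 4, nat_lit 0, nat_lit 4] else [nat_lit 63, nat_lit 4, nat_lit 0, nat_lit 4, nat_lit 0]
def Wt_127_129 (j : ℕ) : List ℕ := bif Nat.blt j 128 then [nat_lit 3, nat_lit 0, nat_lit 3, nat_lit 0] else [nat_lit 2, nat_lit 1, nat_lit 0, nat_lit 2, nat_lit 1, nat_lit 0, nat_lit 4, nat_lit 2, nat_lit 1, nat_lit 0]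
def Wt_125_129 (j : ℕ) : List ℕ := bif Nat.blt j 127 then (Wt_125_127 j) else (Wt_127_129 j)
def Wt_122_129 (j : ℕ) : List ℕ := bif Nat.blt j 125 then (Wt_122_125 j) else (Wt_125_129 j)
def Wt_129_131 (j : ℕ) : List ℕ := bif Nat.blt j 130 then [nat_lit 63, nat_lit 0, nat_lit 4, nat_lit 2, nat_lit 1, nat_lit 0, nat_lit 2, nat_lit 1, nat_lit 0, nat_lit 2, nat_lit 1] else [nat_lit 3, nat_lit 2, nat_lit 3, nat_lit 2, nat_lit 3, nat_lit 2, nat_lit 3, nat_lit 0, nat_lit 2, nat_lit 3, nat_lit 2]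
def Wt_131_133 (j : ℕ) : List ℕ := bif Nat.blt j 132 then [nat_lit 63, nat_lit 9, nat_lit 1, nat_lit 2, nat_lit 3, nat_lit 4, nat_lit 1, nat_lit 2, nat_lit 3, nat_lit 4, nat_lit 1, nat_lit 2, nat_lit 3, nat_lit 4, nat_lit 1, nat_lit 2, nat_lit 3, nat_lit 4, nat_lit 1, nat_lit 2, nat_lit 3, nat_lit 4, nat_lit 1, nat_lit 2, nat_lit 3, nat_lit 4, nat_lit 1, nat_lit 2, nat_lit 3, nat_lit 4] else [nat_lit 2, nat_lit 1, nat_lit 4, nat_lit 3, nat_lit 2, nat_lit 1, nat_lit 10, nat_lit 4, nat_lit 3, nat_lit 2, nat_lit 1, nat_lit 4, nat_lit 3, nat_lit 2, nat_lit 1, nat_lit 4, nat_lit 3, nat_lit 2, nat_lit 1, nat_lit 4, nat_lit 3, nat_lit 2, nat_lit 1, nat_lit 4, nat_lit 3, nat_lit 2, nat_lit 1, nat_lit 4, nat_lit 3]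
def Wt_129_133 (j : ℕ) : List ℕ := bif Nat.blt j 131 then (Wt_129_131 j) else (Wt_131_133 j)
def Wt_133_135 (j : ℕ) : List ℕ := bif Nat.blt j 134 then [nat_lit 1, nat_lit 2, nat_lit 0, nat_lit 1, nat_lit 2, nat_lit 4, nat_lit 0, nat_lit 1, nat_lit 2, nat_lit 0] else [nat_lit 63, nat_lit 4, nat_lit 3, nat_lit 2, nat_lit 1, nat_lit 4, nat_lit 3, nat_lit 2, nat_lit 1, nat_lit 4, nat_lit 3, nat_lit 2, nat_lit 1, nat_lit 4, nat_lit 3, nat_lit 2, nat_lit 1, nat_lit 4, nat_lit 3, nat_lit 2, nat_lit 1, nat_lit 4, nat_lit 3, nat_lit 2, nat_lit 1, nat_lit 4, nat_lit 3, nat_lit 2, nat_lit 1, nat_lit 10]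
def Wt_135_137 (j : ℕ) : List ℕ := bif Nat.blt j 136 then [nat_lit 63, nat_lit 2, nat_lit 4, nat_lit 2, nat_lit 4] else [nat_lit 63, nat_lit 1, nat_lit 0, nat_lit 1, nat_lit 0, nat_lit 1, nat_lit 0, nat_lit 1, nat_lit 0]
def Wt_133_137 (j : ℕ) : List ℕ := bif Nat.blt j 135 then (Wt_133_135 j) else (Wt_135_137 j)
def Wt_129_137 (j : ℕ) : List ℕ := bif Nat.blt j 133 then (Wt_129_133 j) else (Wt_133_137 j)
def Wt_122_137 (j : ℕ) : List ℕ := bif Nat.blt j 129 then (Wt_122_129 j) else (Wt_129_137 j)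
def Wt_138_140 (j : ℕ) : List ℕ := bif Nat.blt j 139 then [nat_lit 63, nat_lit 3, nat_lit 1, nat_lit 3, nat_lit 1] else [nat_lit 63, nat_lit 1, nat_lit 2, nat_lit 1, nat_lit 2, nat_lit 1, nat_lit 2]
def Wt_137_140 (j : ℕ) : List ℕ := bif Nat.blt j 138 then [nat_lit 63, nat_lit 3, nat_lit 2, nat_lit 3, nat_lit 0, nat_lit 2, nat_lit 3, nat_lit 2, nat_lit 3, nat_lit 2, nat_lit 3, nat_lit 2] else (Wt_138_140 j)
def Wt_140_142 (j : ℕ) : List ℕ := bif Nat.blt j 141 then [nat_lit 6, nat_lit 5, nat_lit 6, nat_lit 5, nat_lit 4] else [nat_lit 0, nat_lit 2, nat_lit 1, nat_lit 0, nat_lit 4, nat_lit 2, nat_lit 1, nat_lit 0, nat_lit 2, nat_lit 1]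
def Wt_142_144 (j : ℕ) : List ℕ := bif Nat.blt j 143 then [nat_lit 63, nat_lit 0, nat_lit 6, nat_lit 0, nat_lit 6] else [nat_lit 63, nat_lit 0, nat_lit 2, nat_lit 0, nat_lit 2]
def Wt_140_144 (j : ℕ) : List ℕ := bif Nat.blt j 142 then (Wt_140_142 j) else (Wt_142_144 j)
def Wt_137_144 (j : ℕ) : List ℕ := bif Nat.blt j 140 then (Wt_137_140 j) else (Wt_140_144 j)
def Wt_144_146 (j : ℕ) : List ℕ := bif Nat.blt j 145 then [nat_lit 0, nat_lit 2, nat_lit 1, nat_lit 0, nat_lit 2, nat_lit 1, nat_lit 0, nat_lit 4, nat_lit 2, nat_lit 1] else [nat_lit 63, nat_lit 3, nat_lit 2, nat_lit 3, nat_lit 2, nat_lit 0, nat_lit 3, nat_lit 2, nat_lit 3, nat_lit 2, nat_lit 3, nat_lit 2]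
def Wt_146_148 (j : ℕ) : List ℕ := bif Nat.blt j 147 then [nat_lit 63, nat_lit 5, nat_lit 6, nat_lit 4, nat_lit 5, nat_lit 6] else [nat_lit 63, nat_lit 6, nat_lit 63, nat_lit 6]
def Wt_144_148 (j : ℕ) : List ℕ := bif Nat.blt j 146 then (Wt_144_146 j) else (Wt_146_148 j)
def Wt_148_150 (j : ℕ) : List ℕ := bif Nat.blt j 149 then [nat_lit 3, nat_lit 2, nat_lit 3, nat_lit 2, nat_lit 3, nat_lit 2, nat_lit 3, nat_lit 2, nat_lit 3, nat_lit 0, nat_lit 2] else [nat_lit 63, nat_lit 9, nat_lit 63, nat_lit 10]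
def Wt_150_152 (j : ℕ) : List ℕ := bif Nat.blt j 151 then [nat_lit 63, nat_lit 63, nat_lit 3, nat_lit 63, nat_lit 3] else [nat_lit 63, nat_lit 0, nat_lit 2, nat_lit 1, nat_lit 0, nat_lit 4, nat_lit 2, nat_lit 1, nat_lit 0, nat_lit 2, nat_lit 1]
def Wt_148_152 (j : ℕ) : List ℕ := bif Nat.blt j 150 then (Wt_148_150 j) else (Wt_150_152 j)
def Wt_144_152 (j : ℕ) : List ℕ := bif Nat.blt j 148 then (Wt_144_148 j) else (Wt_148_152 j)
def Wt_137_152 (j : ℕ) : List ℕ := bif Nat.blt j 144 then (Wt_137_144 j) else (Wt_144_152 j)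
def Wt_122_152 (j : ℕ) : List ℕ := bif Nat.blt j 137 then (Wt_122_137 j) else (Wt_137_152 j)
def Wt_153_155 (j : ℕ) : List ℕ := bif Nat.blt j 154 then [nat_lit 4, nat_lit 3, nat_lit 2, nat_lit 1, nat_lit 4, nat_lit 3, nat_lit 2, nat_lit 1, nat_lit 4, nat_lit 3, nat_lit 2, nat_lit 1, nat_lit 4, nat_lit 3, nat_lit 2, nat_lit 1, nat_lit 4, nat_lit 3, nat_lit 2, nat_lit 1, nat_lit 4, nat_lit 3, nat_lit 2, nat_lit 1, nat_lit 4, nat_lit 3, nat_lit 2, nat_lit 1, nat_lit 10] else [nat_lit 63, nat_lit 2, nat_lit 0, nat_lit 1, nat_lit 2, nat_lit 0, nat_lit 1, nat_lit 2, nat_lit 4, nat_lit 0, nat_lit 1]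
def Wt_152_155 (j : ℕ) : List ℕ := bif Nat.blt j 153 then [nat_lit 63, nat_lit 10, nat_lit 63, nat_lit 9] else (Wt_153_155 j)
def Wt_155_157 (j : ℕ) : List ℕ := bif Nat.blt j 156 then [nat_lit 63, nat_lit 4, nat_lit 0, nat_lit 1, nat_lit 2, nat_lit 0, nat_lit 1, nat_lit 2, nat_lit 0, nat_lit 1, nat_lit 2] else [nat_lit 2, nat_lit 3, nat_lit 2, nat_lit 3, nat_lit 2, nat_lit 3, nat_lit 2, nat_lit 3, nat_lit 2, nat_lit 0, nat_lit 3]
def Wt_157_159 (j : ℕ) : List ℕ := bif Nat.blt j 158 then [nat_lit 63, nat_lit 4, nat_lit 2, nat_lit 1, nat_lit 0, nat_lit 2, nat_lit 1, nat_lit 0, nat_lit 2, nat_lit 1, nat_lit 0] else [nat_lit 63, nat_lit 3, nat_lit 2, nat_lit 3, nat_lit 2, nat_lit 3, nat_lit 2, nat_lit 3, nat_lit 2, nat_lit 3, nat_lit 0, nat_lit 2]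
def Wt_155_159 (j : ℕ) : List ℕ := bif Nat.blt j 157 then (Wt_155_157 j) else (Wt_157_159 j)
def Wt_152_159 (j : ℕ) : List ℕ := bif Nat.blt j 155 then (Wt_152_155 j) else (Wt_155_159 j)
def Wt_159_161 (j : ℕ) : List ℕ := bif Nat.blt j 160 then [nat_lit 63, nat_lit 3, nat_lit 2, nat_lit 3, nat_lit 2, nat_lit 3, nat_lit 0, nat_lit 2, nat_lit 3, nat_lit 2, nat_lit 3, nat_lit 2] else [nat_lit 63, nat_lit 2, nat_lit 63, nat_lit 2, nat_lit 63]
def Wt_161_163 (j : ℕ) : List ℕ := bif Nat.blt j 162 then [nat_lit 63, nat_lit 3, nat_lit 4, nat_lit 3, nat_lit 4, nat_lit 3, nat_lit 4] else [nat_lit 63, nat_lit 1, nat_lit 2, nat_lit 4, nat_lit 0, nat_lit 1, nat_lit 2, nat_lit 0, nat_lit 1, nat_lit 2, nat_lit 0]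
def Wt_159_163 (j : ℕ) : List ℕ := bif Nat.blt j 161 then (Wt_159_161 j) else (Wt_161_163 j)
def Wt_163_165 (j : ℕ) : List ℕ := bif Nat.blt j 164 then [nat_lit 63, nat_lit 1, nat_lit 2, nat_lit 0, nat_lit 1, nat_lit 2, nat_lit 4, nat_lit 0, nat_lit 1, nat_lit 2, nat_lit 0] else [nat_lit 63, nat_lit 8, nat_lit 63, nat_lit 7]
def Wt_165_167 (j : ℕ) : List ℕ := bif Nat.blt j 166 then [nat_lit 63, nat_lit 63, nat_lit 10, nat_lit 63, nat_lit 9] else [nat_lit 63, nat_lit 2, nat_lit 1, nat_lit 0, nat_lit 2, nat_lit 1, nat_lit 0, nat_lit 2, nat_lit 1, nat_lit 0, nat_lit 4]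
def Wt_163_167 (j : ℕ) : List ℕ := bif Nat.blt j 165 then (Wt_163_165 j) else (Wt_165_167 j)
def Wt_159_167 (j : ℕ) : List ℕ := bif Nat.blt j 163 then (Wt_159_163 j) else (Wt_163_167 j)
def Wt_152_167 (j : ℕ) : List ℕ := bif Nat.blt j 159 then (Wt_152_159 j) else (Wt_159_167 j)
def Wt_167_169 (j : ℕ) : List ℕ := bif Nat.blt j 168 then [nat_lit 63, nat_lit 3, nat_lit 2, nat_lit 3, nat_lit 2, nat_lit 3, nat_lit 2, nat_lit 3, nat_lit 2, nat_lit 3, nat_lit 2, nat_lit 3, nat_lit 2, nat_lit 3, nat_lit 2, nat_lit 3, nat_lit 2, nat_lit 3, nat_lit 2, nat_lit 3, nat_lit 2] else [nat_lit 3, nat_lit 2, nat_lit 3, nat_lit 2, nat_lit 3, nat_lit 2, nat_lit 3, nat_lit 2, nat_lit 3, nat_lit 2, nat_lit 0]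
def Wt_169_171 (j : ℕ) : List ℕ := bif Nat.blt j 170 then [nat_lit 63, nat_lit 2, nat_lit 3, nat_lit 2, nat_lit 0, nat_lit 3, nat_lit 2, nat_lit 3, nat_lit 2, nat_lit 3, nat_lit 2, nat_lit 3] else [nat_lit 63, nat_lit 4, nat_lit 2, nat_lit 4, nat_lit 2]
def Wt_167_171 (j : ℕ) : List ℕ := bif Nat.blt j 169 then (Wt_167_169 j) else (Wt_169_171 j)
def Wt_171_173 (j : ℕ) : List ℕ := bif Nat.blt j 172 then [nat_lit 63, nat_lit 1, nat_lit 0, nat_lit 2, nat_lit 1, nat_lit 0, nat_lit 2, nat_lit 1, nat_lit 0, nat_lit 4, nat_lit 2] else [nat_lit 63, nat_lit 2, nat_lit 3, nat_lit 2, nat_lit 3, nat_lit 2, nat_lit 3, nat_lit 2, nat_lit 3, nat_lit 2, nat_lit 3, nat_lit 0]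
def Wt_173_175 (j : ℕ) : List ℕ := bif Nat.blt j 174 then [nat_lit 63, nat_lit 8, nat_lit 63, nat_lit 7, nat_lit 63] else [nat_lit 2, nat_lit 63, nat_lit 2, nat_lit 63]
def Wt_171_175 (j : ℕ) : List ℕ := bif Nat.blt j 173 then (Wt_171_173 j) else (Wt_173_175 j)
def Wt_167_175 (j : ℕ) : List ℕ := bif Nat.blt j 171 then (Wt_167_171 j) else (Wt_171_175 j)
def Wt_175_177 (j : ℕ) : List ℕ := bif Nat.blt j 176 then [nat_lit 63, nat_lit 2, nat_lit 0, nat_lit 1, nat_lit 2, nat_lit 4, nat_lit 0, nat_lit 1, nat_lit 2, nat_lit 0, nat_lit 1] else [nat_lit 63, nat_lit 4, nat_lit 5, nat_lit 6, nat_lit 5, nat_lit 6]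
def Wt_177_179 (j : ℕ) : List ℕ := bif Nat.blt j 178 then [nat_lit 63, nat_lit 1, nat_lit 63, nat_lit 1, nat_lit 63] else [nat_lit 3, nat_lit 2, nat_lit 3, nat_lit 2, nat_lit 3, nat_lit 2, nat_lit 3, nat_lit 2, nat_lit 0, nat_lit 3, nat_lit 2]
def Wt_175_179 (j : ℕ) : List ℕ := bif Nat.blt j 177 then (Wt_175_177 j) else (Wt_177_179 j)
def Wt_179_181 (j : ℕ) : List ℕ := bif Nat.blt j 180 then [nat_lit 63, nat_lit 3, nat_lit 0, nat_lit 2, nat_lit 3, nat_lit 2, nat_lit 3, nat_lit 2, nat_lit 3, nat_lit 2, nat_lit 3, nat_lit 2] else [nat_lit 63, nat_lit 2, nat_lit 3, nat_lit 0, nat_lit 2, nat_lit 3, nat_lit 2, nat_lit 3, nat_lit 2, nat_lit 3, nat_lit 2, nat_lit 3]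
def Wt_181_183 (j : ℕ) : List ℕ := bif Nat.blt j 182 then [nat_lit 1, nat_lit 63, nat_lit 1, nat_lit 63] else [nat_lit 7, nat_lit 63, nat_lit 8, nat_lit 63]
def Wt_179_183 (j : ℕ) : List ℕ := bif Nat.blt j 181 then (Wt_179_181 j) else (Wt_181_183 j)
def Wt_175_183 (j : ℕ) : List ℕ := bif Nat.blt j 179 then (Wt_175_179 j) else (Wt_179_183 j)
def Wt_167_183 (j : ℕ) : List ℕ := bif Nat.blt j 175 then (Wt_167_175 j) else (Wt_175_183 j)
def Wt_152_183 (j : ℕ) : List ℕ := bif Nat.blt j 167 then (Wt_152_167 j) else (Wt_167_183 j)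
def Wt_122_183 (j : ℕ) : List ℕ := bif Nat.blt j 152 then (Wt_122_152 j) else (Wt_152_183 j)
def Wt_184_186 (j : ℕ) : List ℕ := bif Nat.blt j 185 then [nat_lit 63, nat_lit 3, nat_lit 2, nat_lit 3, nat_lit 2, nat_lit 3, nat_lit 2, nat_lit 3, nat_lit 2, nat_lit 0, nat_lit 3, nat_lit 2] else [nat_lit 8, nat_lit 63, nat_lit 7, nat_lit 63]
def Wt_183_186 (j : ℕ) : List ℕ := bif Nat.blt j 184 then [nat_lit 63, nat_lit 63, nat_lit 2, nat_lit 63, nat_lit 2] else (Wt_184_186 j)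
def Wt_186_188 (j : ℕ) : List ℕ := bif Nat.blt j 187 then [nat_lit 63, nat_lit 5, nat_lit 4, nat_lit 5, nat_lit 4] else [nat_lit 63, nat_lit 5, nat_lit 0, nat_lit 5, nat_lit 0]
def Wt_188_190 (j : ℕ) : List ℕ := bif Nat.blt j 189 then [nat_lit 63, nat_lit 1, nat_lit 2, nat_lit 0, nat_lit 1, nat_lit 2, nat_lit 0, nat_lit 1, nat_lit 2, nat_lit 4, nat_lit 0] else [nat_lit 2, nat_lit 4, nat_lit 0, nat_lit 1, nat_lit 2, nat_lit 0, nat_lit 1, nat_lit 2, nat_lit 0, nat_lit 1]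
def Wt_186_190 (j : ℕ) : List ℕ := bif Nat.blt j 188 then (Wt_186_188 j) else (Wt_188_190 j)
def Wt_183_190 (j : ℕ) : List ℕ := bif Nat.blt j 186 then (Wt_183_186 j) else (Wt_186_190 j)
def Wt_190_192 (j : ℕ) : List ℕ := bif Nat.blt j 191 then [nat_lit 63, nat_lit 6, nat_lit 4, nat_lit 5, nat_lit 6, nat_lit 5] else [nat_lit 5, nat_lit 4, nat_lit 6, nat_lit 5, nat_lit 6]
def Wt_192_194 (j : ℕ) : List ℕ := bif Nat.blt j 193 then [nat_lit 3, nat_lit 0, nat_lit 2, nat_lit 3, nat_lit 2, nat_lit 3, nat_lit 2, nat_lit 3, nat_lit 2, nat_lit 3, nat_lit 2] else [nat_lit 63, nat_lit 6, nat_lit 5, nat_lit 6, nat_lit 5, nat_lit 4]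
def Wt_190_194 (j : ℕ) : List ℕ := bif Nat.blt j 192 then (Wt_190_192 j) else (Wt_192_194 j)
def Wt_194_196 (j : ℕ) : List ℕ := bif Nat.blt j 195 then [nat_lit 63, nat_lit 5, nat_lit 4, nat_lit 6, nat_lit 5, nat_lit 6] else [nat_lit 63, nat_lit 1, nat_lit 5, nat_lit 1, nat_lit 5]
def Wt_196_198 (j : ℕ) : List ℕ := bif Nat.blt j 197 then [nat_lit 63, nat_lit 5, nat_lit 6, nat_lit 5, nat_lit 6, nat_lit 5, nat_lit 6, nat_lit 5, nat_lit 6] else [nat_lit 63, nat_lit 0, nat_lit 5, nat_lit 0, nat_lit 5]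
def Wt_194_198 (j : ℕ) : List ℕ := bif Nat.blt j 196 then (Wt_194_196 j) else (Wt_196_198 j)
def Wt_190_198 (j : ℕ) : List ℕ := bif Nat.blt j 194 then (Wt_190_194 j) else (Wt_194_198 j)
def Wt_183_198 (j : ℕ) : List ℕ := bif Nat.blt j 190 then (Wt_183_190 j) else (Wt_190_198 j)
def Wt_199_201 (j : ℕ) : List ℕ := bif Nat.blt j 200 then [nat_lit 63, nat_lit 6, nat_lit 63, nat_lit 6, nat_lit 63] else [nat_lit 63, nat_lit 63, nat_lit 4, nat_lit 63, nat_lit 4]
def Wt_198_201 (j : ℕ) : List ℕ := bif Nat.blt j 199 then [nat_lit 63, nat_lit 5, nat_lit 63, nat_lit 5, nat_lit 63] else (Wt_199_201 j)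
def Wt_201_203 (j : ℕ) : List ℕ := bif Nat.blt j 202 then [nat_lit 63, nat_lit 63, nat_lit 63] else [nat_lit 63, nat_lit 3, nat_lit 63, nat_lit 3, nat_lit 63]
def Wt_203_205 (j : ℕ) : List ℕ := bif Nat.blt j 204 then [nat_lit 63, nat_lit 4, nat_lit 63, nat_lit 4, nat_lit 63] else [nat_lit 63, nat_lit 7, nat_lit 63, nat_lit 8, nat_lit 63]
def Wt_201_205 (j : ℕ) : List ℕ := bif Nat.blt j 203 then (Wt_201_203 j) else (Wt_203_205 j)
def Wt_198_205 (j : ℕ) : List ℕ := bif Nat.blt j 201 then (Wt_198_201 j) else (Wt_201_205 j)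
def Wt_205_207 (j : ℕ) : List ℕ := bif Nat.blt j 206 then [nat_lit 63, nat_lit 0, nat_lit 63, nat_lit 0, nat_lit 63] else [nat_lit 63, nat_lit 63, nat_lit 2, nat_lit 63, nat_lit 2, nat_lit 63]
def Wt_207_209 (j : ℕ) : List ℕ := bif Nat.blt j 208 then [nat_lit 63, nat_lit 63, nat_lit 8, nat_lit 63, nat_lit 7] else [nat_lit 63, nat_lit 63, nat_lit 5, nat_lit 63, nat_lit 5]
def Wt_205_209 (j : ℕ) : List ℕ := bif Nat.blt j 207 then (Wt_205_207 j) else (Wt_207_209 j)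
def Wt_209_211 (j : ℕ) : List ℕ := bif Nat.blt j 210 then [nat_lit 63, nat_lit 63, nat_lit 0, nat_lit 63, nat_lit 0] else [nat_lit 63, nat_lit 63, nat_lit 1, nat_lit 63, nat_lit 1]
def Wt_211_213 (j : ℕ) : List ℕ := bif Nat.blt j 212 then [nat_lit 63, nat_lit 7, nat_lit 63, nat_lit 8] else [nat_lit 5, nat_lit 63, nat_lit 5, nat_lit 63]
def Wt_209_213 (j : ℕ) : List ℕ := bif Nat.blt j 211 then (Wt_209_211 j) else (Wt_211_213 j)
def Wt_205_213 (j : ℕ) : List ℕ := bif Nat.blt j 209 then (Wt_205_209 j) else (Wt_209_213 j)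
def Wt_198_213 (j : ℕ) : List ℕ := bif Nat.blt j 205 then (Wt_198_205 j) else (Wt_205_213 j)
def Wt_183_213 (j : ℕ) : List ℕ := bif Nat.blt j 198 then (Wt_183_198 j) else (Wt_198_213 j)
def Wt_214_216 (j : ℕ) : List ℕ := bif Nat.blt j 215 then [nat_lit 6, nat_lit 63, nat_lit 6, nat_lit 63] else [nat_lit 63, nat_lit 63, nat_lit 63, nat_lit 63]
def Wt_213_216 (j : ℕ) : List ℕ := bif Nat.blt j 214 then [nat_lit 63, nat_lit 63, nat_lit 6, nat_lit 63, nat_lit 6] else (Wt_214_216 j)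
def Wt_216_218 (j : ℕ) : List ℕ := bif Nat.blt j 217 then [nat_lit 63, nat_lit 63, nat_lit 9, nat_lit 63, nat_lit 10] else [nat_lit 63, nat_lit 10, nat_lit 63, nat_lit 9, nat_lit 63]
def Wt_218_220 (j : ℕ) : List ℕ := bif Nat.blt j 219 then [nat_lit 63, nat_lit 63, nat_lit 6, nat_lit 63, nat_lit 6, nat_lit 63] else [nat_lit 10, nat_lit 63, nat_lit 9, nat_lit 63]
def Wt_216_220 (j : ℕ) : List ℕ := bif Nat.blt j 218 then (Wt_216_218 j) else (Wt_218_220 j)
def Wt_213_220 (j : ℕ) : List ℕ := bif Nat.blt j 216 then (Wt_213_216 j) else (Wt_216_220 j)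
def Wt_220_222 (j : ℕ) : List ℕ := bif Nat.blt j 221 then [nat_lit 63, nat_lit 9, nat_lit 63, nat_lit 10, nat_lit 63] else [nat_lit 63, nat_lit 63, nat_lit 7, nat_lit 63, nat_lit 8]
def Wt_222_224 (j : ℕ) : List ℕ := bif Nat.blt j 223 then [nat_lit 63, nat_lit 2, nat_lit 3, nat_lit 2, nat_lit 3, nat_lit 2, nat_lit 3, nat_lit 2, nat_lit 3, nat_lit 0, nat_lit 2, nat_lit 3] else [nat_lit 2, nat_lit 0, nat_lit 3, nat_lit 2, nat_lit 3, nat_lit 2, nat_lit 3, nat_lit 2, nat_lit 3, nat_lit 2, nat_lit 3]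
def Wt_220_224 (j : ℕ) : List ℕ := bif Nat.blt j 222 then (Wt_220_222 j) else (Wt_222_224 j)
def Wt_224_226 (j : ℕ) : List ℕ := bif Nat.blt j 225 then [nat_lit 2, nat_lit 3, nat_lit 2, nat_lit 3, nat_lit 2, nat_lit 3, nat_lit 2, nat_lit 0, nat_lit 3, nat_lit 2, nat_lit 3] else [nat_lit 63, nat_lit 6, nat_lit 5, nat_lit 4, nat_lit 6, nat_lit 5]
def Wt_226_228 (j : ℕ) : List ℕ := bif Nat.blt j 227 then [nat_lit 63, nat_lit 6, nat_lit 3, nat_lit 6, nat_lit 3, nat_lit 6, nat_lit 3] else [nat_lit 63, nat_lit 2, nat_lit 3, nat_lit 2, nat_lit 3, nat_lit 0, nat_lit 2, nat_lit 3, nat_lit 2, nat_lit 3, nat_lit 2, nat_lit 3]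
def Wt_224_228 (j : ℕ) : List ℕ := bif Nat.blt j 226 then (Wt_224_226 j) else (Wt_226_228 j)
def Wt_220_228 (j : ℕ) : List ℕ := bif Nat.blt j 224 then (Wt_220_224 j) else (Wt_224_228 j)
def Wt_213_228 (j : ℕ) : List ℕ := bif Nat.blt j 220 then (Wt_213_220 j) else (Wt_220_228 j)
def Wt_228_230 (j : ℕ) : List ℕ := bif Nat.blt j 229 then [nat_lit 5, nat_lit 6, nat_lit 2, nat_lit 3, nat_lit 5, nat_lit 6, nat_lit 2, nat_lit 3, nat_lit 5, nat_lit 6, nat_lit 2, nat_lit 3, nat_lit 5, nat_lit 6, nat_lit 2, nat_lit 3] else [nat_lit 63, nat_lit 1, nat_lit 6, nat_lit 1, nat_lit 6]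
def Wt_230_232 (j : ℕ) : List ℕ := bif Nat.blt j 231 then [nat_lit 63, nat_lit 4, nat_lit 5, nat_lit 4, nat_lit 5] else [nat_lit 6, nat_lit 2, nat_lit 3, nat_lit 5, nat_lit 6, nat_lit 2, nat_lit 3, nat_lit 5, nat_lit 6, nat_lit 2, nat_lit 3, nat_lit 5, nat_lit 6, nat_lit 2, nat_lit 3, nat_lit 5]
def Wt_228_232 (j : ℕ) : List ℕ := bif Nat.blt j 230 then (Wt_228_230 j) else (Wt_230_232 j)
def Wt_232_234 (j : ℕ) : List ℕ := bif Nat.blt j 233 then [nat_lit 2, nat_lit 3, nat_lit 2, nat_lit 3, nat_lit 2, nat_lit 3, nat_lit 2, nat_lit 3, nat_lit 0, nat_lit 2, nat_lit 3] else [nat_lit 63, nat_lit 3, nat_lit 6, nat_lit 3, nat_lit 6, nat_lit 3, nat_lit 6]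
def Wt_234_236 (j : ℕ) : List ℕ := bif Nat.blt j 235 then [nat_lit 63, nat_lit 6, nat_lit 1, nat_lit 6, nat_lit 1] else [nat_lit 63, nat_lit 2, nat_lit 5, nat_lit 2, nat_lit 5]
def Wt_232_236 (j : ℕ) : List ℕ := bif Nat.blt j 234 then (Wt_232_234 j) else (Wt_234_236 j)
def Wt_228_236 (j : ℕ) : List ℕ := bif Nat.blt j 232 then (Wt_228_232 j) else (Wt_232_236 j)
def Wt_236_238 (j : ℕ) : List ℕ := bif Nat.blt j 237 then [nat_lit 2, nat_lit 3, nat_lit 5, nat_lit 6, nat_lit 2, nat_lit 3, nat_lit 5, nat_lit 6, nat_lit 2, nat_lit 3, nat_lit 5, nat_lit 6, nat_lit 2, nat_lit 3, nat_lit 5, nat_lit 6] else [nat_lit 63, nat_lit 6, nat_lit 5, nat_lit 6, nat_lit 5, nat_lit 6, nat_lit 5, nat_lit 6, nat_lit 5]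
def Wt_238_240 (j : ℕ) : List ℕ := bif Nat.blt j 239 then [nat_lit 63, nat_lit 3, nat_lit 5, nat_lit 6, nat_lit 2, nat_lit 3, nat_lit 5, nat_lit 6, nat_lit 2, nat_lit 3, nat_lit 5, nat_lit 6, nat_lit 2, nat_lit 3, nat_lit 5, nat_lit 6, nat_lit 2] else [nat_lit 63, nat_lit 6, nat_lit 4, nat_lit 6, nat_lit 4]
def Wt_236_240 (j : ℕ) : List ℕ := bif Nat.blt j 238 then (Wt_236_238 j) else (Wt_238_240 j)
def Wt_240_242 (j : ℕ) : List ℕ := bif Nat.blt j 241 then [nat_lit 63, nat_lit 5, nat_lit 1, nat_lit 5, nat_lit 1] else [nat_lit 63, nat_lit 5, nat_lit 6, nat_lit 5, nat_lit 6, nat_lit 4]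
def Wt_242_244 (j : ℕ) : List ℕ := bif Nat.blt j 243 then [nat_lit 4, nat_lit 9, nat_lit 1, nat_lit 2, nat_lit 3, nat_lit 4, nat_lit 1, nat_lit 2, nat_lit 3, nat_lit 4, nat_lit 1, nat_lit 2, nat_lit 3, nat_lit 4, nat_lit 1, nat_lit 2, nat_lit 3, nat_lit 4, nat_lit 1, nat_lit 2, nat_lit 3, nat_lit 4, nat_lit 1, nat_lit 2, nat_lit 3, nat_lit 4, nat_lit 1, nat_lit 2, nat_lit 3] else [nat_lit 63, nat_lit 2, nat_lit 3, nat_lit 2, nat_lit 3, nat_lit 2, nat_lit 3, nat_lit 2, nat_lit 3, nat_lit 2, nat_lit 3, nat_lit 2, nat_lit 3, nat_lit 2, nat_lit 3, nat_lit 2, nat_lit 3, nat_lit 2, nat_lit 3, nat_lit 2, nat_lit 3]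
def Wt_240_244 (j : ℕ) : List ℕ := bif Nat.blt j 242 then (Wt_240_242 j) else (Wt_242_244 j)
def Wt_236_244 (j : ℕ) : List ℕ := bif Nat.blt j 240 then (Wt_236_240 j) else (Wt_240_244 j)
def Wt_228_244 (j : ℕ) : List ℕ := bif Nat.blt j 236 then (Wt_228_236 j) else (Wt_236_244 j)
def Wt_213_244 (j : ℕ) : List ℕ := bif Nat.blt j 228 then (Wt_213_228 j) else (Wt_228_244 j)
def Wt_183_244 (j : ℕ) : List ℕ := bif Nat.blt j 213 then (Wt_183_213 j) else (Wt_213_244 j)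
def Wt_122_244 (j : ℕ) : List ℕ := bif Nat.blt j 183 then (Wt_122_183 j) else (Wt_183_244 j)
def Wt_0_244 (j : ℕ) : List ℕ := bif Nat.blt j 122 then (Wt_0_122 j) else (Wt_122_244 j)
def Wt (j : ℕ) : List ℕ := (Wt_0_244 j)
def W (j : ℕ) : List ℕ := bif Nat.blt j 244 then Wt j else []
theorem W_ge (j : ℕ) (h : 244 ≤ j) : W j = [] := by
  unfold W
  rw [blt_false_of_le h]
  rfl
def Hl : List ℕ := [nat_lit 0, nat_lit 2, nat_lit 3, nat_lit 4, nat_lit 5, nat_lit 7, nat_lit 9]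
def isH (y : ℕ) : Bool := List.elem y Hl
def Rb : List (List ℕ) := [[nat_lit 0, nat_lit 0],
  [nat_lit 1, nat_lit 0, nat_lit 1, nat_lit 0, nat_lit 1, nat_lit 0, nat_lit 1, nat_lit 0],
  [nat_lit 2, nat_lit 0, nat_lit 2, nat_lit 0],
  [nat_lit 3, nat_lit 0, nat_lit 3, nat_lit 0],
  [nat_lit 4, nat_lit 0, nat_lit 4, nat_lit 0],
  [nat_lit 5, nat_lit 0, nat_lit 5, nat_lit 0],
  [nat_lit 6, nat_lit 0, nat_lit 6, nat_lit 0],
  [nat_lit 1, nat_lit 1],
  [nat_lit 2, nat_lit 1, nat_lit 2, nat_lit 1, nat_lit 2, nat_lit 1],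
  [nat_lit 3, nat_lit 1, nat_lit 3, nat_lit 1],
  [nat_lit 4, nat_lit 1, nat_lit 4, nat_lit 1],
  [nat_lit 5, nat_lit 1, nat_lit 5, nat_lit 1],
  [nat_lit 6, nat_lit 1, nat_lit 6, nat_lit 1],
  [nat_lit 2, nat_lit 2],
  [nat_lit 3, nat_lit 2, nat_lit 3, nat_lit 2, nat_lit 3, nat_lit 2, nat_lit 3, nat_lit 2, nat_lit 3, nat_lit 2, nat_lit 3, nat_lit 2, nat_lit 3, nat_lit 2, nat_lit 3, nat_lit 2, nat_lit 3, nat_lit 2, nat_lit 3, nat_lit 2],
  [nat_lit 4, nat_lit 2, nat_lit 4, nat_lit 2],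
  [nat_lit 5, nat_lit 2, nat_lit 5, nat_lit 2],
  [nat_lit 6, nat_lit 2, nat_lit 6, nat_lit 2],
  [nat_lit 3, nat_lit 3],
  [nat_lit 4, nat_lit 3, nat_lit 4, nat_lit 3, nat_lit 4, nat_lit 3],
  [nat_lit 5, nat_lit 3, nat_lit 5, nat_lit 3, nat_lit 5, nat_lit 3],
  [nat_lit 6, nat_lit 3, nat_lit 6, nat_lit 3, nat_lit 6, nat_lit 3],
  [nat_lit 4, nat_lit 4],
  [nat_lit 5, nat_lit 4, nat_lit 5, nat_lit 4],
  [nat_lit 6, nat_lit 4, nat_lit 6, nat_lit 4],
  [nat_lit 5, nat_lit 5],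
  [nat_lit 6, nat_lit 5, nat_lit 6, nat_lit 5, nat_lit 6, nat_lit 5, nat_lit 6, nat_lit 5],
  [nat_lit 6, nat_lit 6],
  [nat_lit 5, nat_lit 6, nat_lit 5, nat_lit 6, nat_lit 4],
  [nat_lit 0, nat_lit 1, nat_lit 2, nat_lit 0, nat_lit 1, nat_lit 2, nat_lit 0, nat_lit 1, nat_lit 2, nat_lit 4],
  [nat_lit 2, nat_lit 3, nat_lit 2, nat_lit 3, nat_lit 2, nat_lit 3, nat_lit 2, nat_lit 3, nat_lit 2, nat_lit 3, nat_lit 0],
  [nat_lit 6, nat_lit 5, nat_lit 3, nat_lit 2, nat_lit 6, nat_lit 5, nat_lit 3, nat_lit 2, nat_lit 6, nat_lit 5, nat_lit 3, nat_lit 2, nat_lit 6, nat_lit 5, nat_lit 3, nat_lit 2],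
  [nat_lit 1, nat_lit 0, nat_lit 1, nat_lit 0, nat_lit 8],
  [nat_lit 4, nat_lit 3, nat_lit 2, nat_lit 1, nat_lit 4, nat_lit 3, nat_lit 2, nat_lit 1, nat_lit 4, nat_lit 3, nat_lit 2, nat_lit 1, nat_lit 4, nat_lit 3, nat_lit 2, nat_lit 1, nat_lit 4, nat_lit 3, nat_lit 2, nat_lit 1, nat_lit 4, nat_lit 3, nat_lit 2, nat_lit 1, nat_lit 4, nat_lit 3, nat_lit 2, nat_lit 1, nat_lit 10],
  []]
def spT_0_2 (j : ℕ) : ℕ := bif Nat.blt j 1 then nat_lit 0x20280000001e0000c03a000020260000002a000000240000001a0000002200000000000000280000200c000020040000003b0000203d0001003c0000c03c000020300000202e000000160000003c0000a03c00000018000020410000203a0000e03a00000014000020580000002c0000000e000000140000201000000012000000420000002600032042000020220000201e00000020000000360000003200002022000000040000000800000038000000280000000a0000403e000000060000202a000020200000203b0000803a0000001000002038000020180000603800000030000000220000000c0000004000004040000020160000201400002012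 else nat_lit 0x200600000008000020080000005400000006000020020000403f0000603b0000001c0000003e000000320000201c0000203c0000002c000020280000603e0000003a0000403a000080380001203c000000000000003a0001203b00002008000080390001003b000020580000003900000002000000340000603b0000203900000020000060390000203e0000200a00002043000000580000603c0000002c00000026000020020000403b00002006000000240000000e00000010000020340000000400002014000020300000001a0000201200000024000020380000003e0000e03c0000603a00002054000000000000000c0001003a000040380000002e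
def spT_2_4 (j : ℕ) : ℕ := bif Nat.blt j 3 then nat_lit 0x39000060380001203a0000203a0000000a0000002e000000540000603d0000001a000020540000000e0001003c0001203c0000803d0000000e000080380000a03a0000001a000020540000003c0000403b0000001e0001003d0000403d0000001c0000203b00002058000020540000803a0000e03a000020260000001a0000a03c0000203c0000003b0000603d0001203a0000403a00002042000020580000c03b00000024000000580000403c00000036000040380000e03d0000803b000020040000200c0000e03b0000403900002010000000120000e03c000000020000201e000000420000a03a0002e042000000430000803c0001203b0000a03b else nat_lit 0x201c000000430000003800000016000000300000203f000000340000203f00002020000000180000202a0000603c0000003f0000202e000020180000603f0000c03c0000002a000060390000a03d0000003d0000403c00000054000000580000005800000036000020580000005800000044000000360000003600000032000000540000000e0000000000000032000020540000001a00000000000000540000002c00000024000000440000002c00000036000000320000200a000020340000201600008039000020390001403c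
def spT_0_4 (j : ℕ) : ℕ := bif Nat.blt j 2 then (spT_0_2 j) else (spT_2_4 j)
def spT (j : ℕ) : ℕ := (spT_0_4 j)
def sp (j : ℕ) : ℕ := Nat.land (Nat.shiftRight (spT (Nat.shiftRight j 6)) (Nat.mul (Nat.land j 63) 32)) 4294967295
theorem Eo_lt (r : ℕ) : Eo r < 18014398509481984 := land54_lt _
def cT_0_2 (j : ℕ) : ℕ := bif Nat.blt j 1 then nat_lit 0x1e800005300035400021800032100031f0001bd0003a000034400013300002500001700013600011700011f00012f00011800000f0016f50017000007d90003300016e40016ff0008070016fc0007cb001d7700060900066200148300064700146f0005d60005bd0000f30000f20000b30005bf0005c70000cb0000ca0005840000390000090001fb00036600006f00007200002a0003900000aa00008e00007600002c0006ab0001c000066300063000063b00083000010500043e00003b0000b100022300008a00002000009200004b0000520006b400069f00034700034500002600010800001800001d00000e0007d800032e0007ca0005f700060400010700010600034900003a00000a0000ac0000ab00000800006e00002900002b00069a00066400003c00008b00004600004500001e00004000003e00002700001900000d0007c300069c00006700008c00000b00002800000600006b00003d00001c00001b00000c000044000043000005000003000004000002000001000000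 else nat_lit 0x3430009df00026300026100013a0003040003030000240019910019900001610001b50014a80012390001600001150000220001a000019d00001600190800059a00013f00014300014100012400011900013c0000100006350007da00143900188e0006360019cd0003310017010008080016640015e40016fd0016e50016e7001e860016f600060a00166000179d00165f00179c0006000005ff00163000162400117300117200104000080d001d760005cc00146e00146d00064800064a0005b800058b0000df0000de00058c000fe000115d0002ac0000380003ba0004380001fa00007100038200038100007400007000034c00113a001129000fe30000c900021f00036500021200034a00007700039a0003990000ad00002d00162f0014970006ac0001af000fac001482000d4b00170a00171100166200178d00062c0005f50011920000f10000b40006600006ec00023100010400002100043f0000640000b00000890005420001e10002090001e70002070005100000a90000ae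
def cT_2_4 (j : ℕ) : ℕ := bif Nat.blt j 3 then nat_lit 0x4be000cbe00080c0005600002500005860005850005690005660018b00012540003ad0000370012fe0011b0000ea40002ab0003ae0003d80003580003b900034800053200021c00034e00101c001376001f69000aab00148500148400143400143300113f001137001ecd0002ad00059000038000009300035c0001f90002130003a900036400036d00036f0000780004f70004f800022d0000dd00035a0003bb00009400036800002e0006ad0014790014430001ae0001b00001c4001473000d4c00148100148e00160c00162b0016370011860011710000b5001dc9000734001fe90006eb00166300060c00010300025c0001ba0001b9000bf800062e0007db0000f00000e0000c0a000f8a000f9e0006790000630000a300140a00140b0009280008cb0009dd0019fd00082b0001e500050c0000880008c80008c70001e200112b000fb50011810000c80000f40000a800050f0008c60002d50008c40001e900044000053f0000af0000540003510002150005dd0003b4000355000219 else nat_lit 0x9e0001d0a000da80002fe0000e10004000003420003a30009de00013b0001b80002330005df0003b60002e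c0002eb0001b7001e970002db001c93001c1a000cb9000e1e00019a0001b30004d90004480000d70011e00018bf000a6700011400028800028700002300023500161800161900019f00052b0002af00019c00011300018d00035600021a0005990014ed0002bf0002c0000147001ae400198f00018a0002b2000e9d00014f00014000018c00018b00017300017200011b00053d0003010001500001540000e4000015000011000fc1000aa800142f0010f1000bf300188f0018a90006700016d40019ca0001690014350015e300160a0016f30016910015e5000200001c580016060016e30017820013fe001c7a001978001c53001cbf00162c001638000cb8000f800015a40015b90015c8000fd90004b30015a2000aac0005cd00019200148b000fa900019100147600064b000cb600115f000a4000058a001472001488001cb5000e5d000246000fdf0007de001071001d2f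
def cT_0_4 (j : ℕ) : ℕ := bif Nat.blt j 2 then (cT_0_2 j) else (cT_2_4 j)
def cT_4_6 (j : ℕ) : ℕ := bif Nat.blt j 5 then nat_lit 0xfaa0001b20002df00023c001495001f25000dc00002e100148f00016c00143b0015e2001eae00161400119b0011700000b8000672001dca0011f6000dc8000a08000fc3001f31001169001e8a000c44001cae00060d0011440011520002bb0011610005cf0000d90012cf0000c50010dc000c080000ef0007dc000258000c1c0015af000f910006ea0015850010e90015ae000677000733000bd8000651000bd6000bd50013e40013f000168f0015e70008290008ce0009dc001d630002fc001b4b0001e4000be1000bde000f76000c1e0013fd001f7e00185c0019fc001a530003390000a40000620001e30011ce001f2b000e8c0020ae00110c0016030013fb0000c700025b0002340002320000f5000185000f230010c9000e0800174c00168d000991001b2a001bfb00038800050e000087000a160009920001870008e30003850002d60001eb0003830004f6000c3400118a0000dc0000cc0005090000a200091e00039500020a0000550003500003b00002140003f4000fed001016 else nat_lit 0x57800128f000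dc3001d26001e8400023a00080b00028600123100056100053600058900057a001d32001377000bb30005680001900002b1000bb400135600018f00144a00055d00055c0005210000c1000e5e001f7a000247000fde000ae5000ea3000ea50000bf000cbd0000be00107200057c00055e0000c0000588000538000a3d0012b4000357000f83000ea20018b1000e5f00021b00101d000da60015b2001ec70013a4001df4001e7a000aaa0015e000019e001462001460001cb6000e830002760011360007dd001d6a0004ff0002640013450012ce0018b300024a001225000c4500051600051e0002ae00135800112f00041300133600024c001bac00116a00035d0001f80003630003a80003ea000d9a0003c1000d990003700004f000035f0000790003a5001f4d0015b6000a0b0010bc00145c0016080005230000c30016e000122a0003af0003d70005260000360003e10003e000003000009700009900002f001475001f73001a4b001c2b00147a0014440014640001ad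
def cT_6_8 (j : ℕ) : ℕ := bif Nat.blt j 7 then nat_lit 0x1e990002da0009fe001bc700189600049800044700120c0018bd0012f10000f6000252001d1c00198e0001890010a0000e4b00025500014e0015010001810001800003000002ea000157001c1c0001660011b6000aae00015f0000e30001640001630000e5000012001633000aa9001fcc00060f001dc700177b000fc2001bd50006710016270016d3001f95001f6b001bd3000168001fd30015ee00016a0016f00002ba00167d0015390015e60018920016f1001666001145000f500011470015f200143000092b0018c400189000009b000341001ec20003ec0000d80005980004b10011430015b40015cb00168b0015d90001f0001044000db1001ec10002be0004840004860015c30005ce001dd700159f001757001e90001add000fa8000c17001f930001650017a8001c1b00095a00042c0010e400042e000cb7000e17001160000a3f000a4100137d00137f00115100147700148c001ebf001f4c001e8e000e5b000a6e00209d001d960000e2000aad001257001070001467001f98 else nat_lit 0x1502000f1a000b7c000b7d000386001c80001c20001e6c000387001e7000014c00008600097a0002d8000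8e20004a00001ec0009cb0009ca0009c90003840004f3000e840000db0013840000cd000184000ba00010b000017a00169400092c001b4e0003150003940005ec00006100092a0005080000a10003910009290000580000560011bb0003df00124800035e00135700009a00101a0013e7000e28001bdb000a090013e8000a07001f3d001cb8001f40001f4e0003ff0010150003a4000fef001d09000da90002fd001a15000ff00002ca000fe70009220002d30002c7001f3c001e79000310001a4400023b0002c1001f5e001e960017ab001b20001c020017aa0004c9000b480001ef000a4d000a34000a0100099400040c0003ce00040b0003790001ee0004c20008d60002f1000a38000a360002bc0000c40002dc001e9f0004490004cd0000c20003380011a50014630011b40000d600019b000f82000a3e000bb00002ff0010ab0010a90014ec0001480001580003400002c5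
def cT_4_8 (j : ℕ) : ℕ := bif Nat.blt j 6 then (cT_4_6 j) else (cT_6_8 j)
def cT_0_8 (j : ℕ) : ℕ := bif Nat.blt j 4 then (cT_0_4 j) else (cT_4_8 j)
def cT_8_10 (j : ℕ) : ℕ := bif Nat.blt j 9 then nat_lit 0x26f00147c00123e001d280012b8001e8b0009fd001f94001115001fcd00060e001e3a00177f0000cf0013ea001e8f0013660002850013980010b9001142001332001e89001e8c0011bd001eb2000fb80015c60015fd000c1b001b56000d9b0013590012240015f30015f5001b5700042d0015ac0017360015fb0003c4001133001ecb000bd90013bb000650000c0700064f0013bc0010da0004e90013630000fe0000ea0002800002730008270008cf0018b6001d6d001d73001bc000155f000ba8000bdd000259000ba7000f8d0013080014130009da001f1e001625001631000bd4000bd3000b9f000b9e0015f10003130002fb0011cf001c72001490000e8d001134000e8b001f8a001fce0004fe0016200013fa0013dd0000ec0015e90013a60000da00122f0000c600130700025a00026c00091f000257000f79001df0000f7e0004e70014ff000b7f001eca000e07000e09000b7a000f520011eb0018b8001d6200014a000b80000f4a000e470019fb001a5200033a000186000188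 else nat_lit 0x11350011c0001d6b00026e0004e600024d000e4200044b000baf000dff0001f70004040003eb0013e1000daf001cc50004200004030003a7000362001cf600046300040800037200049400005900037100024b00041200036000044e00007a00041f0003e400041e0003a6001cc2000a0a001ba90005240005310018b4001d69001c3c001246001e850012290004ec0004ee00024e000e060003d600003100047000003500007c0004890003be0003c30003c00003fa0003bd0010e300042f001d98001d29001f72001b230002ee001f220017af000ff100147b001c07000428001461001a4a001a48001465000c16001e7f001f1000147f0011a900177900042b001f26001f3b00120e0004290014940011a8000ff2000dc2001ef80002e0001a160002e20001670015e1001303001c28001f0f001ef1001b1d0018eb0002de00116f0011c10011960008d00000b90006730002e4001f240002a600041d001491000dc9000dc10019890011ba000dc70009cd00057b000fc4001c34001f2a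
def cT_10_12 (j : ℕ) : ℕ := bif Nat.blt j 11 then nat_lit 0x197f0015ce0011f8001b22001c03001ee2000174000959001c90000937000983001ec4001f710010e6001f6f001e92001c3b000461000e03001f9b0015eb000e160013b50013db001c0400187b001edf001dac001f15001f6a0017770010e20020340000ce000f51001258001d4c001f14000c150004dd000e8a001e83001a18001f48001a49001d250000f700027e0002b6001870001ec600059200161d001f20001d23000579001fa7001f23000bb6000bb2001bd700126c0004cf000ed000106f00049d001c650004d30014490013550000d5000567001f4b001466001f7b002002000a6d002033001d950004c40004c1001e8d002020001ad6001f780002ef000dc4001d27000cbc0002f0000ea6001295000a77000537000ea7001d330004b2000e010015ca0015d3001f490013f50015df001ec90017a90014680013e2001f4a000e53001d97001f18001ed2000e77001ef2000ff30002480002490002a80000bd001f41001247001e7400052e001cb70018b2000fb9001d6c000275 else nat_lit 0x2d9001bc6000a12001f320004a3000e0f000497000085001bd10018bc00014d000256000b330002530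012780002e70002e90002c2001cb40009ce000378000a030011f7000170000177000f16000aaf00015e0000e80000e6001632001f19001f11001ad50014920010d100042a001fcf000610001fcb00177c001fa400042400201b001fd2001bd6000bf1001b24001626001c88001c98001f7c00147d001112001875001f97001f6c000a65000dc5001c62001cce001352001ccd001f1f0015ed001fd500161e0018ab0013650000d000139d0000e90013d000154c00154d0000eb001e2f001e02001538000284001146000f4f000953001e480004cc000b2800009c0015da0015c900048200110f000b78000ed6001b6a0016d80015c40015dd0000800004830003c70003c8000034000318000de00003e60015db0013b00004530010ce00017b001b6b00152e0000fd000b770015300004550015d50013d90017660017480013df001f5400120d0016cd000e52001f3a000c19001f38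
def cT_8_12 (j : ℕ) : ℕ := bif Nat.blt j 10 then (cT_8_10 j) else (cT_10_12 j)
def cT_12_14 (j : ℕ) : ℕ := bif Nat.blt j 13 then nat_lit 0x49f0009e10004ef0015d7001399000183001223000bab000b79000f580012220004b900092d001c4f001bbf000f590000f80001820003140002fa0011f30000d2000b6a0000fa00017900039200095b001ee4001e1d0003930000a000050700095d00095800054900006000095200095100007b0003f200049e0013e60004a6000a18001d9900037b000a06001f51001ba8001cc4001d3c001d06001d84000fee0003e5001f89000bef001c1d001bf60002ed00031600046500052d000462001c71001eb30002e500042700120f002083001ef600208e001eef001ce5001b1f000960000b4700005a000a42001d9400095e00040d00054a001d03000a9a000a05000a4f000b4a0008d700005b000a3900095f000ae8001c260002dd001f52000dd0000deb0004b60000bc001cd200037a0004a70002970004b000048a0002e80010aa000481000fe600092100033d000d9c00030d001e68001ee10017ad001b210002f40003cc000a100009e40003d00001ed0009fc0002f3000082001ea9 else nat_lit 0x6740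0044c0002e3000de7000ff4000dc6001ee300198a000935000a02001dcc000a000003e3000fc50002a500121300147e001ad7001f3f001ecc001ad9000e0e000aa4001d22001d450020a60010d30013e50020370011140010b80013af0004e80016c00016c2001f74001f750003e7001b58001ec0001d81000e3d000ed90002e6000de2000db0001756000c14000e44000bee0013ed000e4300064e001e36001980001e880013ee0004b500116c001e2d001c4c001c4d001bb70009860009d9001c0600125a000e45000f8e0000ff00027f001bc1001f27001fd6001fa50010cf0013f90010d00016210013a700125900010000110e001def001d7f001f76001fd00000bb0018b5001e73000ed4000bdc000e46001bc2001f50001ed90017b0000933000e49000f4e000f1d001234001ddf0012c5000b7b000b7e001689001f7d001c810018b9001bc5001e6b001e5d00014b000f1e000e48001e710019fa001a51000496000a520019f9001d54001f33000ff90009e5001ada000a0f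
def cT_15_17 (j : ℕ) : ℕ := bif Nat.blt j 16 then nat_lit 0x1c67002063002047001c6a000e0400047f000de6001f460001f4001c6c001eb10004a5001ad80004b4001c510018a1001f36001214001e7e001f77001bc3001d52001fb9000ed8001e820018a2000b72000f57001f87001c50001bbe00005e0002f800095c00005d000f450000d3001ee50002f9000957000dbb00045700106300186d001c96001d05000dbd001ef5002065001d4e000505001c94000a9900005f000a37000a350020af002092001d04001c46000dde000fe5000464001877001f21000ff5001ce2000ff8000ff7000a11001a4e000ff600198b001e72000aa0001d930018bb0004a200008300046000005c001d02000a9c0003770009d000098700015d000f55001d07001d3b0010d20004a400042200045400206d0016cb000a64000a66001f91001c63001c97001ed000135100130e0000d1000b6c0013d100009d001b98000f56001b5c0003d100045200003300048d0010cd001dde0010b30000fc000b7600152f000317000423001fca001f37001221001f6d000985 else nat_lit 0x1e81001e7c001f86000acc0018780002f6001879001f8e001ebc001e93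
def cT_14_17 (j : ℕ) : ℕ := bif Nat.blt j 15 then nat_lit 0x1c8c000a0d0002f5001cdf001f45001ef0001c8f0001780002f70009cf000982000984000e390020360013b8000e1c001111000ed70016c1001dc3001c3800152d000e1b001ede00187a001ea8001f3e00048f001e7d001f42002091000176001c8b00040e000e37001f79000a9e002064000ed3001c66001dad0014480013530000d4001c64001d4d001e7700105000186f00161c000a33000e02001874000ea8001f99001b97000eda0004250015de001110001469002038001ed10016ca001d3a001e76001d3d000593000485001ebd0013ec000e3e00007e0004050001f600007f0003730009cc0011e6001f6e001e7b00041100036100043300045000044f0001f5001f9a001fd10001f20003fc0003e2000032000ddf0003c200045100007d0003bf00045a00043000048e002032001d2a00045d0017ae001ce60004310015cf0016cc001fee001c8a001e80000934001e94001f13001bff001dcd002021001cd3001b1e00133c001ece00121000116d000e050000ba0004910003fb else (cT_15_17 j)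
def cT_12_17 (j : ℕ) : ℕ := bif Nat.blt j 14 then (cT_12_14 j) else (cT_14_17 j)
def cT_8_17 (j : ℕ) : ℕ := bif Nat.blt j 12 then (cT_8_12 j) else (cT_12_17 j)
def cT_0_17 (j : ℕ) : ℕ := bif Nat.blt j 8 then (cT_0_8 j) else (cT_8_17 j)
def cT (j : ℕ) : ℕ := (cT_0_17 j)
noncomputable def cChunk (h : ℕ) : ℕ := Nat.rec (motive := fun _ => ℕ) (cT 0) (fun n _ => cT (Nat.succ n)) h
noncomputable def cF (i : ℕ) : ℕ := Nat.land (Nat.shiftRight (cChunk (Nat.shiftRight i 7)) (Nat.mul (Nat.land i 127) 24)) 16777215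
theorem cF_lt (i : ℕ) : cF i < 16777216 := land24_lt _
theorem cF_zero : cF 0 = 0 := by decide +kernel
def nDef : ℕ := 8377
def nEv : ℕ := 33495
def nW : ℕ := 244
def N : ℕ := 2058
def ys : List ℕ := [nat_lit 0, nat_lit 1, nat_lit 2, nat_lit 3, nat_lit 4, nat_lit 5, nat_lit 6, nat_lit 7, nat_lit 8, nat_lit 9, nat_lit 10]
end Cfsg.Agent.Lib.ToddCox.He2058
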